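import Cfsg.Agent.R2.T1.N6B.Fld
import Cfsg.Agent.R2.T1.N6B.Conj
import Cfsg.Agent.R2.T1.N6D.Out

/-!
# S5929, `n = 6`, characteristic three, the covering group (helper22; box B)

* `no_stab` : no highest weight vector of `SL(2, 9)` on `V(F)` is an eigenvector ..
* `six3c` : **box B**.
-/

set_option autoImplicit false
set_option maxRecDepth 100000
set_option linter.unusedSectionVars false

namespace Cfsg.Agent.R2.T1.N6B

open Cfsg Cfsg.Lie Module
open Cfsg.Agent.H943.E7V.Block (D1 rho)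
open Cfsg.Agent.H952.F4 (ev es MaxAlt)
open Cfsg.Agent.R2.T1
open Matrix (SpecialLinearGroup)
open Cfsg.Agent.H943.SL2Rel

universe u v w

section
variable {F : Type u} [Field F] [Finite F] {H : Subgroup ↥(chevE7.group F)} {φ : A6 →* ↥(chevE7.group F)}

/-- the fixed element of the torus and the elements commuting with it -/
theorem comm_torus {E : Type} [Field E] {a₀ : Eˣ} (ha : a₀ * a₀ ≠ 1) {s : SpecialLinearGroup (Fin 2) E}
    (hs : s * h a₀ = h a₀ * s) : ∃ b : Eˣ, s = h b := by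
  have h1 := congrArg (fun m : SpecialLinearGroup (Fin 2) E => (m : Matrix (Fin 2) (Fin 2) E)) hs
  have h2 : (s : Matrix (Fin 2) (Fin 2) E) * !![(a₀ : E), 0; 0, (a₀ : E)⁻¹] = !![(a₀ : E), 0; 0, (a₀ : E)⁻¹] * s := h1
  have ha0 : (a₀ : E) ≠ 0 := a₀.ne_zero
  have hne : (a₀ : E) ≠ (a₀ : E)⁻¹ := by
    intro h3
    apply ha
    apply Units.ext
    rw [Units.val_mul, Units.val_one]
    nth_rewrite 1 [h3]
    exact inv_mul_cancel₀ ha0
  have e01 := congrFun (congrFun h2 0) 1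
  have e10 := congrFun (congrFun h2 1) 0
  simp [Matrix.mul_apply, Fin.sum_univ_two] at e01 e10
  have f01 : (s : Matrix (Fin 2) (Fin 2) E) 0 1 = 0 := by
    have h3 : (s : Matrix (Fin 2) (Fin 2) E) 0 1 * ((a₀ : E)⁻¹ - a₀) = 0 := by linear_combination e01
    exact (mul_eq_zero.1 h3).resolve_right (sub_ne_zero.2 hne.symm)
  have f10 : (s : Matrix (Fin 2) (Fin 2) E) 1 0 = 0 := by
    have h3 : (s : Matrix (Fin 2) (Fin 2) E) 1 0 * (a₀ - (a₀ : E)⁻¹) = 0 := by linear_combination e10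
    exact (mul_eq_zero.1 h3).resolve_right (sub_ne_zero.2 hne)
  have hdet : (s : Matrix (Fin 2) (Fin 2) E) 0 0 * (s : Matrix (Fin 2) (Fin 2) E) 1 1 = 1 := by
    have h3 := s.2
    rw [Matrix.det_fin_two, f01, zero_mul, sub_zero] at h3
    exact h3
  refine ⟨Units.mk0 _ (left_ne_zero_of_mul_eq_one hdet), ?_⟩
  apply Subtype.ext
  show (s : Matrix (Fin 2) (Fin 2) E) = !![(s : Matrix (Fin 2) (Fin 2) E) 0 0, 0; 0, ((s : Matrix (Fin 2) (Fin 2) E) 0 0)⁻¹]
  ext i j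
  fin_cases i <;> fin_cases j
  · rfl
  · exact f01
  · exact f10
  · exact eq_inv_of_mul_eq_one_right hdet

/-- no `H`-eigenvector -/
theorem no_eigen [CharP F 3] (hM : MaxAlt H 6 φ) {E : Type} [Field E] [Fintype E] [DecidableEq E] [CharP E 3]
    (ι : E →+* F) (hE : Fintype.card E = 3 ^ 2) {σ : SpecialLinearGroup (Fin 2) E →* Gh F}
    (hr : σ.range = φ.range.comap (ad F)) {c : ℕ} (hc : c = 1 ∨ c = 3) {x : D1 → F} (hx : IsHw ι (rF σ) c x) (hx0 : x ≠ 0)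
    (hst : ∀ g : Gh F, ad F g ∈ H → ∃ g₀ s, g = g₀ * σ s ∧ (∀ s, ∃ s', g₀ * σ s = σ s' * g₀) ∧ ∃ e : F, V F g₀ x = e • x) :
    False := by
  classical
  obtain ⟨W, hW, hxW, hfr, hmin⟩ := hx.plane ι hE hc hx0
  refine no_plane hM (by norm_num) (Or.inr (by norm_num)) (W := W) (fun g hg w hw => ?_) hfr
  obtain ⟨g₀, s, rfl, hn, e, he⟩ := hst g hg
  rw [V_mul]
  have h1 : W ≤ W.comap (V F g₀) := by
    refine hmin _ (fun t y hy => ?_) ?_
    · obtain ⟨s', hs'⟩ := hn t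
      show V F g₀ (V F (σ t) y) ∈ W
      rw [← V_mul, hs', V_mul]
      exact hW s' _ hy
    · show V F g₀ x ∈ W
      rw [he]
      exact W.smul_mem e hxW
  exact h1 (hW s w hw)

/-- **box B of S5929** -/
theorem six3c (hM : MaxAlt H 6 φ) (hc : Cover φ) (h3 : (3 : F) = 0) : False := by
  classical
  have hch : CharP F 3 := charP_three h3
  have h2 : (2 : F) ≠ 0 := two_ne_of_three
  have := Fintype.ofFinite F
  -- the field with 9 elements
  let E := GaloisField 3 2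
  have : Fintype E := Fintype.ofFinite E
  have hE : Fintype.card E = 3 ^ 2 := by
    rw [← Nat.card_eq_fintype_card]
    exact GaloisField.card 3 2 (by norm_num)
  have hE9 : Fintype.card E = 9 := by rw [hE]; norm_num
  obtain ⟨σ, hσi, hσn, hσr⟩ := exists_sl (F9 := E) hE9 hM.inj hc
  obtain ⟨a₀, ha⟩ := IsCyclic.exists_generator (α := Eˣ)
  obtain ⟨ha4, hao⟩ := gen_pow_four hE ha
  have ha8 : a₀ ^ 8 = 1 := by rw [← hao, pow_orderOf_eq_one]
  -- the element of order 8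
  obtain ⟨x₀, hx₀⟩ : ∃ x₀, x₀ = σ (h a₀) := ⟨_, rfl⟩
  have hx4 : V F (x₀ ^ 4) = -1 := by
    rw [hx₀, ← map_pow, ← h_pow, ha4, h_neg_one, hσn]
  have hmemr : ∀ g : Gh F, ad F g ∈ φ.range → ∃ s, σ s = g := by
    intro g hg
    have h1 : g ∈ σ.range := by rw [hσr]; exact hg
    exact h1
  have hmemr' : ∀ s, ad F (σ s) ∈ φ.range := by
    intro s
    have h1 : σ s ∈ σ.range := ⟨s, rfl⟩
    rw [hσr] at h1
    exact h1
  -- the order of the field
  obtain ⟨n, -, hn⟩ := FiniteField.card F 3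
  have hn' : Nat.card F = 3 ^ (n : ℕ) := by rw [Nat.card_eq_fintype_card, hn]
  have hev : Even (n : ℕ) := by
    by_contra hno
    rw [Nat.not_even_iff_odd] at hno
    refine Cfsg.Agent.R2.T1.Five.no_eight h2 hx4 (Or.inl ?_)
    rw [hn']
    exact (pow_three_mod _).1 hno
  obtain ⟨ι⟩ := exists_iota (E := E) hE (F := F) hev hn'
  -- the highest weight vectors
  obtain ⟨c, hc13, x, hx0, hx⟩ := exists_hw_V ι hE hσn
  -- normality
  have hnorm : ∀ g : Gh F, ad F g ∈ H → ∀ s, ∃ s', g * σ s = σ s' * g := by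
    intro g hg s
    have h1 : ad F (g * σ s * g⁻¹) ∈ φ.range := by
      rw [map_mul, map_mul, map_inv]
      exact hM.norm _ hg _ (hmemr' s)
    obtain ⟨s', hs'⟩ := hmemr _ h1
    exact ⟨s', by rw [hs']; group⟩
  by_cases hH : ∀ g ∈ H, g ∈ φ.range
  · -- `H = A₆`
    refine no_eigen hM ι hE hσr hc13 hx hx0 fun g hg => ?_
    obtain ⟨s, hs⟩ := hmemr g (hH _ hg)
    exact ⟨1, s, by rw [one_mul, hs], fun s => ⟨s, by rw [one_mul, mul_one]⟩, 1, by rw [V_one, one_smul]⟩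
  push Not at hH
  obtain ⟨k, hkH, hk⟩ := hH
  obtain ⟨k', hk'⟩ := ad_surjective k
  obtain ⟨y, hy, hyk⟩ := exists_adj h2 hM hx4 (by rw [hx₀]; exact hmemr' _) (h := k') (by rw [hk']; exact hkH)
  obtain ⟨g₀, hg₀⟩ : ∃ g₀, g₀ = y * k' := ⟨_, rfl⟩
  rw [← hg₀] at hyk
  have hg₀H : ad F g₀ ∈ H := by
    rw [hg₀, map_mul, hk']
    exact H.mul_mem (hM.le hy) hkH
  have hg₀r : ad F g₀ ∉ φ.range := by
    intro h1
    apply hk
    rw [hg₀, map_mul, hk'] at h1
    exact (Subgroup.mul_mem_cancel_left _ hy).1 h1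
  have hcomm : g₀ * x₀ = x₀ * g₀ := by
    nth_rewrite 2 [← hyk]
    group
  -- the square
  obtain ⟨s₀, hs₀⟩ := hmemr (g₀ * g₀) (by rw [map_mul]; exact hM.sq _ hg₀H)
  obtain ⟨b, rfl⟩ : ∃ b : Eˣ, s₀ = h b := by
    refine comm_torus (a₀ := a₀) (fun h0 => ?_) (hσi ?_)
    · have := orderOf_dvd_of_pow_eq_one (x := a₀) (n := 2) (by rw [sq, h0])
      rw [hao] at this
      omega
    · rw [map_mul, map_mul, hs₀, ← hx₀]
      calc g₀ * g₀ * x₀ = g₀ * (g₀ * x₀) := by group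
        _ = g₀ * (x₀ * g₀) := by rw [hcomm]
        _ = (g₀ * x₀) * g₀ := by group
        _ = (x₀ * g₀) * g₀ := by rw [hcomm]
        _ = x₀ * (g₀ * g₀) := by group
  -- the square root of the eigenvalue
  obtain ⟨j, hj⟩ : ∃ j : ℕ, a₀ ^ j = b := by
    obtain ⟨j, hj⟩ := (mem_powers_iff_mem_zpowers (x := a₀)).2 (ha b)
    exact ⟨j, hj⟩
  have hζ8 : (ι (a₀ : E)) ^ 8 = 1 := by
    rw [← map_pow, ← Units.val_pow_eq_pow_val, ha8, Units.val_one, map_one]
  obtain ⟨e, he⟩ : ∃ e : F, e * e = ι (b : E) ^ c := by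
    rcases Nat.even_or_odd j with hje | hjo
    · obtain ⟨m, hm⟩ := hje
      refine ⟨ι (a₀ : E) ^ (m * c), ?_⟩
      rw [← hj, hm, Units.val_pow_eq_pow_val, map_pow, ← pow_mul, ← pow_add]
      congr 1
      ring
    · have hq : Nat.card F % 16 = 1 := by
        rw [hn']
        rcases (pow_three_mod (n : ℕ)).2 hev with h1 | h1
        · exact h1
        · exfalso
          rw [← hn'] at h1
          refine no_sixteen h1 (k := g₀) ?_
          have h4 : g₀ ^ 8 = σ (h (b ^ 4)) := by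
            rw [h_pow, map_pow, hs₀, ← sq, ← pow_mul]
          have h5 : b ^ 4 = -1 := by
            rw [← hj, ← pow_mul, mul_comm, pow_mul, ha4, hjo.neg_one_pow]
          rw [h4, h5, h_neg_one, hσn]
      obtain ⟨e₀, he₀⟩ := exists_root hq hζ8
      refine ⟨e₀ ^ (j * c), ?_⟩
      rw [← mul_pow, he₀, ← hj, Units.val_pow_eq_pow_val, map_pow, ← pow_mul]
  -- the eigenvector
  have hn₀ : ∀ s, ∃ s', σ s * g₀ = g₀ * σ s' := by
    intro s
    obtain ⟨s', hs'⟩ := hnorm g₀⁻¹ (by rw [map_inv]; exact H.inv_mem hg₀H) s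
    refine ⟨s', ?_⟩
    have h1 : σ s = g₀ * (g₀⁻¹ * σ s) := by group
    rw [h1, hs']
    group
  have hx' := hw_normal ι hE hσn hc13 ha hn₀ (by rw [← hx₀]; exact hcomm) hx
  have hsq : V F g₀ (V F g₀ x) = (e * e) • x := by
    rw [← V_mul, ← hs₀, he]
    exact hx.fh b
  obtain ⟨v, hv0, hv, e', he'⟩ : ∃ v : D1 → F, v ≠ 0 ∧ IsHw ι (rF σ) c v ∧ ∃ e' : F, V F g₀ v = e' • v := by
    by_cases hz : V F g₀ x + e • x = 0
    · exact ⟨x, hx0, hx, -e, by rw [neg_smul]; exact eq_neg_of_add_eq_zero_left hz⟩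
    · refine ⟨_, hz, hx'.add (hx.smul e), e, ?_⟩
      rw [map_add, hsq, map_smul, smul_add, mul_smul, add_comm]
  have hodd' : Cfsg.Agent.R2.T1.N6D.NoOdd H φ := by
    intro g hg τ hτ hcon
    exact hodd h2 hM hc g τ hτ fun a => hcon a (cj τ a) rfl
  refine no_eigen hM ι hE hσr hc13 hv hv0 fun g hg => ?_
  by_cases hgr : ad F g ∈ φ.range
  · obtain ⟨s, hs⟩ := hmemr g hgr
    exact ⟨1, s, by rw [one_mul, hs], fun s => ⟨s, by rw [one_mul, mul_one]⟩, 1, by rw [V_one, one_smul]⟩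
  · have h1 := Cfsg.Agent.R2.T1.N6D.quot_two hM hodd' hg₀H hg hg₀r hgr
    rw [← map_inv, ← map_mul] at h1
    obtain ⟨s, hs⟩ := hmemr _ h1
    exact ⟨g₀, s, by rw [hs]; group, hnorm g₀ hg₀H, e', he'⟩

end

end Cfsg.Agent.R2.T1.N6B
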