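import Cfsg.Agent.R2.T1.Inf.Cov
import Cfsg.Agent.S0242

/-!
# S5929, box B: the covering group of `A₆` is `SL(2, 9)` (helper25)

* `Rel2` : Carmichael's relations for `2·A₆`; `Rel2.card` : they define a group of order 720;
* `rel_sl` : generators of `SL(2, 9)` with these relations;
* `exists_sl` : in the cover case, the preimage of the image of `φ` is the image of `SL(2, 9)`.
-/

set_option autoImplicit false

namespace Cfsg.Agent.R2.T1.N6B

open Cfsg Cfsg.Lie Module Subgroup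
open Cfsg.Agent.H943.E7V.Block (D1 rho)
open Cfsg.Agent.Lib.AltCarmichael
open Cfsg.Agent.R2.T1

universe u v w

section abs
variable {G : Type u} {H : Type v} [Group G] [Group H]

/-- the relations of the covering group `2·A₆` -/
structure Rel2 (y : ℕ → G) (z : G) : Prop where
  comm : ∀ g, g * z = z * g
  sq : z * z = 1
  cube : ∀ i < 4, y i ^ 3 = 1
  prod : ∀ i < 4, ∀ j < 4, i ≠ j → (y i * y j) ^ 2 = z

theorem card_range_ker {A : Type*} {B : Type*} [Group A] [Group B] (f : A →* B) :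
    Nat.card A = Nat.card f.ker * Nat.card f.range := by
  rw [← Subgroup.index_ker, Subgroup.card_mul_index]

theorem map_gen (f : G →* H) (y : ℕ → G) : (gen 4 y).map f = gen 4 fun i => f (y i) := by
  rw [gen_def, gen_def, MonoidHom.map_closure]
  congr 1
  ext g
  constructor
  · rintro ⟨_, ⟨i, hi, rfl⟩, rfl⟩
    exact ⟨i, hi, rfl⟩
  · rintro ⟨i, hi, rfl⟩
    exact ⟨_, ⟨i, hi, rfl⟩, rfl⟩

theorem Rel2.mem {y : ℕ → G} {z : G} (h : Rel2 y z) : z ∈ gen 4 y := by
  rw [← h.prod 0 (by norm_num) 1 (by norm_num) (by norm_num)]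
  exact pow_mem (mul_mem (mem_gen (by norm_num)) (mem_gen (by norm_num))) 2

theorem Rel2.card {y : ℕ → G} {z : G} (h : Rel2 y z) (hz : z ≠ 1) : Nat.card (gen 4 y) = 720 := by
  have hc : z ∈ center G := Subgroup.mem_center_iff.2 h.comm
  have hN : (zpowers z).Normal := ⟨fun a ha g => by
    have h1 : a ∈ center G := (zpowers_le.2 hc) ha
    rw [Subgroup.mem_center_iff.1 h1 g, mul_inv_cancel_right]
    exact ha⟩
  have hcard : Nat.card (zpowers z) = 2 := by
    rw [Nat.card_zpowers]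
    exact orderOf_eq_prime (by rw [pow_two, h.sq]) hz
  have hsq : ∀ w ∈ zpowers z, w ^ 2 = 1 := by
    rintro w ⟨k, rfl⟩
    show (z ^ k) ^ 2 = 1
    rw [← zpow_natCast, ← zpow_mul, mul_comm, zpow_mul, zpow_natCast, pow_two, h.sq, one_zpow]
  set q := QuotientGroup.mk' (zpowers z) with hq
  have hqz : q z = 1 := (QuotientGroup.eq_one_iff z).2 (mem_zpowers z)
  have hrel : Rel 4 fun i => q (y i) := by
    refine ⟨fun i hi => ?_, fun i hi j hj hij => ?_⟩
    · rw [← map_pow, h.cube i hi, map_one]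
    · rw [← map_mul, ← map_pow, h.prod i hi j hj hij, hqz]
  have hne : ∃ i < 4, q (y i) ≠ 1 := by
    by_contra hall
    push Not at hall
    have h1 : q (y 0 * y 1) = 1 := by rw [map_mul, hall 0 (by norm_num), hall 1 (by norm_num), mul_one]
    have h2 := hsq _ ((QuotientGroup.eq_one_iff _).1 h1)
    rw [h.prod 0 (by norm_num) 1 (by norm_num) (by norm_num)] at h2
    exact hz h2
  obtain ⟨e⟩ := nonempty_gen_equiv (by norm_num) hrel hne
  have hA : Nat.card ↥(alternatingGroup (Fin (4 + 2))) = 360 := by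
    rw [nat_card_alternatingGroup, Nat.card_eq_fintype_card, Fintype.card_fin]
    rfl
  have h3 : Nat.card (gen 4 fun i => q (y i)) = 360 := by rw [Nat.card_congr e.toEquiv, hA]
  set D := gen 4 y with hD
  have h4 := card_range_ker (q.comp D.subtype)
  have h5 : (q.comp D.subtype).range = gen 4 fun i => q (y i) := by
    rw [MonoidHom.range_comp, range_subtype, hD, map_gen]
  have h6 : (q.comp D.subtype).ker = (zpowers z).subgroupOf D := by
    ext g
    rw [MonoidHom.mem_ker, mem_subgroupOf]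
    exact QuotientGroup.eq_one_iff _
  have h7 : Nat.card ((zpowers z).subgroupOf D) = 2 := by
    rw [← hcard]
    exact Nat.card_congr (subgroupOfEquivOfLe (by rw [zpowers_le]; exact h.mem)).toEquiv
  rw [h4, h5, h6, h3, h7]

theorem Rel2.prod_rel {y : ℕ → G} {z : G} {y' : ℕ → H} {z' : H} (h : Rel2 y z) (h' : Rel2 y' z') :
    Rel2 (fun i => (y i, y' i)) (z, z') where
  comm _ := Prod.ext (h.comm _) (h'.comm _)
  sq := Prod.ext h.sq h'.sq
  cube i hi := Prod.ext (h.cube i hi) (h'.cube i hi)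
  prod i hi j hj hij := Prod.ext (h.prod i hi j hj hij) (h'.prod i hi j hj hij)

theorem inj_of_card {A : Type*} {B : Type*} [Group A] [Group B] (f : A →* B) (h : Nat.card f.range = Nat.card A)
    (h0 : Nat.card A ≠ 0) : Function.Injective f := by
  rw [← MonoidHom.ker_eq_bot_iff]
  have h1 := card_range_ker f
  rw [h] at h1
  have h2 : Nat.card f.ker = 1 := by
    have h3 : Nat.card f.ker * Nat.card A = 1 * Nat.card A := by rw [← h1, one_mul]
    exact Nat.eq_of_mul_eq_mul_right (Nat.pos_of_ne_zero h0) h3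
  exact eq_bot_of_card_eq _ h2

/-- two groups with these relations -/
theorem Rel2.exists_hom {y : ℕ → G} {z : G} {y' : ℕ → H} {z' : H} (h : Rel2 y z) (h' : Rel2 y' z') (hz : z ≠ 1)
    (hz' : z' ≠ 1) (ht : gen 4 y = ⊤) :
    ∃ σ : G →* H, Function.Injective σ ∧ σ z = z' ∧ (∀ i < 4, σ (y i) = y' i) ∧ σ.range = gen 4 y' := by
  have hp := h.prod_rel h'
  set D := gen 4 (fun i => (y i, y' i)) with hD
  have hcD : Nat.card D = 720 := hp.card fun h1 => hz (congrArg Prod.fst h1)
  have hcG : Nat.card G = 720 := by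
    rw [← h.card hz, ht]
    exact (Nat.card_congr topEquiv.toEquiv).symm
  have hcH : Nat.card (gen 4 y') = 720 := h'.card hz'
  set p1 : D →* G := (MonoidHom.fst G H).comp D.subtype with hp1
  set p2 : D →* H := (MonoidHom.snd G H).comp D.subtype with hp2
  have hr1 : p1.range = ⊤ := by
    rw [hp1, MonoidHom.range_comp, range_subtype, hD, map_gen, ← ht]
    rfl
  have hr2 : p2.range = gen 4 y' := by
    rw [hp2, MonoidHom.range_comp, range_subtype, hD, map_gen]
    rfl
  have hi1 : Function.Injective p1 := by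
    refine inj_of_card p1 ?_ (by rw [hcD]; norm_num)
    rw [hr1, hcD, ← hcG]
    exact Nat.card_congr topEquiv.toEquiv
  have hs1 : Function.Surjective p1 := MonoidHom.range_eq_top.1 hr1
  set e : D ≃* G := MulEquiv.ofBijective p1 ⟨hi1, hs1⟩ with he
  have hes : ∀ d : D, e.symm (p1 d) = d := fun d => e.symm_apply_apply d
  refine ⟨p2.comp e.symm.toMonoidHom, ?_, ?_, fun i hi => ?_, ?_⟩
  · rw [MonoidHom.coe_comp]
    refine (inj_of_card p2 (by rw [hr2, hcH, hcD]) (by rw [hcD]; norm_num)).comp e.symm.injective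
  · have h1 := hes ⟨(z, z'), hp.mem⟩
    show p2 (e.symm z) = z'
    have h2 : p1 ⟨(z, z'), hp.mem⟩ = z := rfl
    rw [h2] at h1
    rw [h1]
    rfl
  · have hm : (y i, y' i) ∈ D := mem_gen (x := fun i => (y i, y' i)) hi
    have h1 := hes ⟨(y i, y' i), hm⟩
    show p2 (e.symm (y i)) = y' i
    have h2 : p1 ⟨(y i, y' i), hm⟩ = y i := rfl
    rw [h2] at h1
    rw [h1]
    rfl
  · rw [MonoidHom.range_comp, ← hr2]
    have h1 : (e.symm.toMonoidHom).range = ⊤ := MonoidHom.range_eq_top.2 e.symm.surjective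
    rw [h1, ← MonoidHom.range_eq_map]

end abs

section sl
variable {E : Type u} [Field E]

local notation "SL2" => Matrix.SpecialLinearGroup (Fin 2) E

theorem sq_of_trace {A : SL2} (h : A.1 0 0 + A.1 1 1 = 0) : A ^ 2 = -1 := by
  have hd : A.1 0 0 * A.1 1 1 - A.1 0 1 * A.1 1 0 = 1 := by rw [← Matrix.det_fin_two]; exact A.2
  apply Subtype.ext
  rw [pow_two, Matrix.SpecialLinearGroup.coe_mul, Matrix.SpecialLinearGroup.coe_neg, Matrix.SpecialLinearGroup.coe_one]
  ext i j
  fin_cases i <;> fin_cases j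
  · simp [Matrix.mul_apply, Fin.sum_univ_two]
    linear_combination (A.1 0 0) * h - hd
  · simp [Matrix.mul_apply, Fin.sum_univ_two]
    linear_combination (A.1 0 1) * h
  · simp [Matrix.mul_apply, Fin.sum_univ_two]
    linear_combination (A.1 1 0) * h
  · simp [Matrix.mul_apply, Fin.sum_univ_two]
    linear_combination (A.1 1 1) * h - hd

theorem cube_of_trace (h3 : (3 : E) = 0) {A : SL2} (h : A.1 0 0 + A.1 1 1 = 2) : A ^ 3 = 1 := by
  have hd : A.1 0 0 * A.1 1 1 - A.1 0 1 * A.1 1 0 = 1 := by rw [← Matrix.det_fin_two]; exact A.2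
  apply Subtype.ext
  rw [pow_succ, pow_two, Matrix.SpecialLinearGroup.coe_mul, Matrix.SpecialLinearGroup.coe_mul,
    Matrix.SpecialLinearGroup.coe_one]
  have hd1 : A.1 1 1 = 2 - A.1 0 0 := by linear_combination h
  have hbc : A.1 0 1 * A.1 1 0 = A.1 0 0 * (2 - A.1 0 0) - 1 := by rw [← hd1]; linear_combination -hd
  ext i j
  fin_cases i <;> fin_cases j
  · simp [Matrix.mul_apply, Fin.sum_univ_two]
    rw [hd1]
    linear_combination (A.1 0 0 + 2) * hbc + (A.1 0 0 - 1) * h3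
  · simp [Matrix.mul_apply, Fin.sum_univ_two]
    rw [hd1]
    linear_combination (A.1 0 1) * hbc + (A.1 0 1) * h3
  · simp [Matrix.mul_apply, Fin.sum_univ_two]
    rw [hd1]
    linear_combination (A.1 1 0) * hbc + (A.1 1 0) * h3
  · simp [Matrix.mul_apply, Fin.sum_univ_two]
    rw [hd1]
    linear_combination (4 - A.1 0 0) * hbc + (1 - A.1 0 0) * h3

/-- the matrices of the generators -/
def gM (t : E) (n : ℕ) : Matrix (Fin 2) (Fin 2) E :=
  if n = 0 then !![1, 1; 0, 1] else if n = 1 then !![1, 0; 1, 1] else if n = 2 then !![1 - t, 1; 1, 1 + t] else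
    !![1 + t, 1; 1, 1 - t]

theorem gM_det {t : E} (ht : t * t = -1) (n : ℕ) : (gM t n).det = 1 := by
  unfold gM
  split_ifs
  · rw [Matrix.det_fin_two_of]; ring
  · rw [Matrix.det_fin_two_of]; ring
  · rw [Matrix.det_fin_two_of]; linear_combination -ht
  · rw [Matrix.det_fin_two_of]; linear_combination -ht

/-- the generators -/
def gX (t : E) (ht : t * t = -1) (n : ℕ) : SL2 := ⟨gM t n, gM_det ht n⟩

/-- the trace of a product -/
def tp (A B : Matrix (Fin 2) (Fin 2) E) : E :=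
  A 0 0 * B 0 0 + A 0 1 * B 1 0 + (A 1 0 * B 0 1 + A 1 1 * B 1 1)

theorem tp_of (a b c d a' b' c' d' : E) : tp !![a, b; c, d] !![a', b'; c', d'] = a * a' + b * c' + (c * b' + d * d') := rfl

theorem tp_gM (h3 : (3 : E) = 0) {t : E} (ht : t * t = -1) {i j : ℕ} (hi : i < 4) (hj : j < 4) (hij : i ≠ j) :
    tp (gM t i) (gM t j) = 0 := by
  have e0 : gM t 0 = !![1, 1; 0, 1] := rfl
  have e1 : gM t 1 = !![1, 0; 1, 1] := rfl
  have e2 : gM t 2 = !![1 - t, 1; 1, 1 + t] := rfl
  have e3 : gM t 3 = !![1 + t, 1; 1, 1 - t] := rfl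
  have hc : ∀ a : ℕ, a < 4 → a = 0 ∨ a = 1 ∨ a = 2 ∨ a = 3 := fun a ha => by omega
  rcases hc i hi with rfl | rfl | rfl | rfl <;> rcases hc j hj with rfl | rfl | rfl | rfl <;>
    first
    | exact absurd rfl hij
    | (simp only [e0, e1, e2, e3, tp_of]; first | linear_combination h3 | linear_combination 2 * h3 - 2 * ht)

theorem tr_gM {t : E} {i : ℕ} : (gM t i) 0 0 + (gM t i) 1 1 = 2 := by
  unfold gM
  split_ifs
  · show (1 : E) + 1 = 2; norm_num
  · show (1 : E) + 1 = 2; norm_num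
  · show (1 - t : E) + (1 + t) = 2; ring
  · show (1 + t : E) + (1 - t) = 2; ring

theorem tr_mul (A B : SL2) : (A * B).1 0 0 + (A * B).1 1 1 = tp A.1 B.1 := by
  rw [show (A * B).1 = A.1 * B.1 from Matrix.SpecialLinearGroup.coe_mul A B, Matrix.mul_apply, Matrix.mul_apply,
    Fin.sum_univ_two, Fin.sum_univ_two]
  rfl

theorem rel_sl (h3 : (3 : E) = 0) {t : E} (ht : t * t = -1) : Rel2 (gX t ht) (-1 : SL2) where
  comm g := by rw [mul_neg, mul_one, neg_mul, one_mul]
  sq := by rw [neg_mul_neg, mul_one]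
  cube i _ := cube_of_trace h3 tr_gM
  prod i hi j hj hij := sq_of_trace ((tr_mul _ _).trans (tp_gM h3 ht hi hj hij))

variable [Fintype E]

theorem three_eq (h9 : Fintype.card E = 9) : (3 : E) = 0 := by
  have h1 : ((Fintype.card E : ℕ) : E) = 0 := Nat.cast_card_eq_zero E
  rw [h9] at h1
  have h2 : (3 : E) * 3 = 0 := by
    have h3 : ((9 : ℕ) : E) = 3 * 3 := by norm_num
    rw [← h3, h1]
  rcases mul_eq_zero.1 h2 with h | h <;> exact h

theorem exists_i (h9 : Fintype.card E = 9) : ∃ t : E, t * t = -1 := by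
  have h1 : IsSquare (-1 : E) := FiniteField.isSquare_neg_one_iff.2 (by rw [h9]; norm_num)
  obtain ⟨t, ht⟩ := h1
  exact ⟨t, ht.symm⟩

theorem neg_ne (h9 : Fintype.card E = 9) : (-1 : SL2) ≠ 1 := by
  intro h
  have h1 := congrArg (fun A : SL2 => A.1 0 0) h
  have h2 : (-1 : E) = 1 := by
    have e1 : ((-1 : SL2) : Matrix (Fin 2) (Fin 2) E) 0 0 = -1 := by
      rw [Matrix.SpecialLinearGroup.coe_neg, Matrix.SpecialLinearGroup.coe_one]
      simp
    have e2 : ((1 : SL2) : Matrix (Fin 2) (Fin 2) E) 0 0 = 1 := by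
      rw [Matrix.SpecialLinearGroup.coe_one]
      simp
    exact e1.symm.trans (h1.trans e2)
  have h3 := three_eq h9
  have h4 : (1 : E) = 0 := by linear_combination h3 + h2
  exact one_ne_zero h4

theorem card_SL2 (h9 : Fintype.card E = 9) : Nat.card SL2 = 720 := by
  have h1 := Cfsg.Agent.S0242.result (F := E) h9 2 (by norm_num)
  rw [Fin.prod_univ_two] at h1
  simp only [Fin.val_zero, Fin.val_one, pow_zero, pow_one] at h1
  omega

theorem gen_top (h9 : Fintype.card E = 9) {t : E} (ht : t * t = -1) : gen 4 (gX t ht) = ⊤ := by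
  have h1 := (rel_sl (three_eq h9) ht).card (neg_ne h9)
  have : Finite SL2 := inferInstance
  exact eq_top_of_card_eq _ (by rw [h1, card_SL2 h9])

end sl

section main
variable {F : Type u} [Field F]

theorem range_eq {m : ℕ} (hm : 1 ≤ m) (φ : ↥(alternatingGroup (Fin (m + 2))) →* ↥(chevE7.group F)) {g : ↥(chevE7.group F)}
    (hg : g ∈ φ.range) {S : Subgroup ↥(chevE7.group F)} (hS : ∀ (i : ℕ) (hi : i < m), φ ⟨cyc m i, cyc_mem m i hi⟩ ∈ S) :
    g ∈ S := by
  obtain ⟨a, rfl⟩ := hg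
  have h2 := gen_cyc m hm
  obtain ⟨t, ht⟩ := a
  have ht' := ht
  rw [← h2, gen_def] at ht'
  have hle : Subgroup.closure {g | ∃ i < m, g = cyc m i} ≤ alternatingGroup (Fin (m + 2)) := by
    rw [← gen_def, h2]
  suffices h3 : ∀ t (ht : t ∈ Subgroup.closure {g | ∃ i < m, g = cyc m i}), φ ⟨t, hle ht⟩ ∈ S from h3 t ht'
  intro t ht
  induction ht using Subgroup.closure_induction with
  | mem u hu =>
    obtain ⟨i, hi, rfl⟩ := hu
    exact hS i hi
  | one =>
    have : (⟨1, hle (one_mem _)⟩ : ↥(alternatingGroup (Fin (m + 2)))) = 1 := rfl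
    rw [this, map_one]
    exact one_mem _
  | mul u v hu hv ihu ihv =>
    have : (⟨u * v, hle (mul_mem hu hv)⟩ : ↥(alternatingGroup (Fin (m + 2)))) = ⟨u, hle hu⟩ * ⟨v, hle hv⟩ := rfl
    rw [this, map_mul]
    exact mul_mem ihu ihv
  | inv u hu ihu =>
    have : (⟨u⁻¹, hle (inv_mem hu)⟩ : ↥(alternatingGroup (Fin (m + 2)))) = (⟨u, hle hu⟩)⁻¹ := rfl
    rw [this, map_inv]
    exact inv_mem ihu

theorem exists_sl_aux {E : Type v} [Field E] [Fintype E] (h9 : Fintype.card E = 9) {m : ℕ} (hm : m = 4)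
    {φ : ↥(alternatingGroup (Fin (m + 2))) →* ↥(chevE7.group F)} (hφ : Function.Injective φ) (hc : Cover φ) :
    ∃ σ : Matrix.SpecialLinearGroup (Fin 2) E →* Gh F, Function.Injective σ ∧ V F (σ (-1)) = -1 ∧
      σ.range = φ.range.comap (ad F) := by
  obtain ⟨t, ht⟩ := exists_i h9
  obtain ⟨z, hz1, hzn, hz, -⟩ := id hc
  have hzV : V F z = -1 := neg_of hzn
  have hrel := rel_cyc m
  -- the lifts of order 3
  have hex : ∀ i : ℕ, ∃ y : Gh F, y ^ 3 = 1 ∧ ∀ hi : i < m, ad F y = φ ⟨cyc m i, cyc_mem m i hi⟩ := by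
    intro i
    by_cases hi : i < m
    · obtain ⟨y, hy, hy3⟩ := odd_lift (g := φ ⟨cyc m i, cyc_mem m i hi⟩) (k := 3) (by decide) (by
        rw [← map_pow]
        have : (⟨cyc m i, cyc_mem m i hi⟩ : ↥(alternatingGroup (Fin (m + 2)))) ^ 3 = 1 :=
          Subtype.ext (hrel.cube i hi)
        rw [this, map_one])
      exact ⟨y, hy3, fun _ => hy⟩
    · exact ⟨1, one_pow 3, fun h => absurd h hi⟩
  choose y hy3 hy using hex
  have hR : Rel2 y z := by
    refine ⟨ker_comm hz, ker_sq hz, fun i _ => hy3 i, fun i hi j hj hij => ?_⟩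
    rw [← hm] at hi hj
    have h1 : ad F (y i * y j) = φ (⟨cyc m i, cyc_mem m i hi⟩ * ⟨cyc m j, cyc_mem m j hj⟩) := by
      rw [map_mul, hy i hi, hy j hj, map_mul]
    have h2 := hc.sq (by omega) hφ (a := ⟨cyc m i, cyc_mem m i hi⟩ * ⟨cyc m j, cyc_mem m j hj⟩) (cyc_mul hi hj hij) h1
    rw [pow_two]
    exact V_injective (h2.trans hzV.symm)
  obtain ⟨σ, h1, h2, h3, h4⟩ := (rel_sl (three_eq h9) ht).exists_hom hR (neg_ne h9) hz1 (gen_top h9 ht)
  refine ⟨σ, h1, by rw [h2, hzV], ?_⟩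
  rw [h4]
  apply le_antisymm
  · rw [gen_def, closure_le]
    rintro _ ⟨i, hi, rfl⟩
    rw [← hm] at hi
    exact ⟨_, (hy i hi).symm⟩
  · intro g hg
    have h5 : ad F g ∈ (gen 4 y).map (ad F) := by
      refine range_eq (by omega) φ hg fun i hi => ?_
      rw [← hy i hi]
      exact mem_map_of_mem _ (mem_gen (by omega))
    obtain ⟨k, hk, hkg⟩ := h5
    have h6 : ad F (k⁻¹ * g) = 1 := by rw [map_mul, map_inv, hkg, inv_mul_cancel]
    have h7 : g = k * (k⁻¹ * g) := (mul_inv_cancel_left _ _).symm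
    rw [h7]
    rcases ker_cases hzV h6 with h8 | h8
    · rw [h8, mul_one]; exact hk
    · rw [h8]; exact mul_mem hk hR.mem

/-- **the preimage is `SL(2, 9)`** -/
theorem exists_sl {F9 : Type v} [Field F9] [Fintype F9] (h9 : Fintype.card F9 = 9)
    {φ : ↥(alternatingGroup (Fin 6)) →* ↥(chevE7.group F)} (hφ : Function.Injective φ) (hc : Cover φ) :
    ∃ σ : Matrix.SpecialLinearGroup (Fin 2) F9 →* Gh F, Function.Injective σ ∧ V F (σ (-1)) = -1 ∧
      σ.range = φ.range.comap (ad F) :=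
  exists_sl_aux h9 (m := 4) rfl hφ hc

end main

end Cfsg.Agent.R2.T1.N6B
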