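import Cfsg.Agent.R2.T1.N6B.Hw
import Cfsg.Agent.R2.T1.N6B.Eig
import Cfsg.Agent.R2.T1.N6B.Sl
import Cfsg.Agent.R2.T1.Inf.Form
import Cfsg.Agent.R2.T1.Inf.Ext

/-!
# Highest weight vectors on the 56-dimensional module (helper22)

* `exists_desc` : semilinear maps `V(K) → V(F)`;
* `exists_hw_V` : highest weight vectors of `SL(2, 9)` on `V(F)`;
* `hw_normal` : elements normalizing the image of `SL(2, 9)` and commuting with a torus element preserve them.
-/

set_option autoImplicit false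
set_option maxRecDepth 100000
set_option linter.unusedSectionVars false

namespace Cfsg.Agent.R2.T1.N6B

open Cfsg Cfsg.Lie Module
open Cfsg.Agent.H943.E7V.Block (D1 rho)
open Cfsg.Agent.H952.F4 (ev es MaxAlt)
open Cfsg.Agent.R2.T1
open Matrix (SpecialLinearGroup)
open Cfsg.Agent.H943.SL2Rel Cfsg.Agent.H943.SL2Mod Cfsg.Agent.H943.RepAdd Cfsg.Agent.R2.H28.SL2

universe u v w

section
variable {F : Type u} {K : Type v} [Field F] [Field K] (f : F →+* K)

/-- extension of scalars on vectors -/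
def exv : (D1 → F) →+ (D1 → K) where
  toFun x i := f (x i)
  map_zero' := funext fun _ => map_zero f
  map_add' x y := funext fun i => map_add f (x i) (y i)

theorem exv_apply (x : D1 → F) : exv f x = fun i => f (x i) := rfl

theorem exv_V (g : Gh F) (x : D1 → F) : exv f (V F g x) = V K (emb f g) (exv f x) := (V_emb f g x).symm

theorem exv_smul (r : F) (x : D1 → F) : exv f (r • x) = f r • exv f x := funext fun i => map_mul f r (x i)

theorem exv_inj : Function.Injective (exv f) := fun _ _ h => funext fun i => f.injective (congrFun h i)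

/-- **descent of vectors** -/
theorem exists_desc {y : D1 → K} (hy : y ≠ 0) : ∃ T : (D1 → K) →+ (D1 → F),
    (∀ g x, T (V K (emb f g) x) = V F g (T x)) ∧ (∀ (r : F) x, T (f r • x) = r • T x) ∧ T y ≠ 0 := by
  letI : Algebra F K := f.toAlgebra
  have hsm : ∀ (r : F) (t : K), r • t = f r * t := fun r t => Algebra.smul_def r t
  obtain ⟨i, hi⟩ : ∃ i, y i ≠ 0 := by
    by_contra hcon
    push Not at hcon
    exact hy (funext hcon)
  obtain ⟨l, hl⟩ : ∃ l : Module.Dual F K, l (y i) ≠ 0 := by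
    by_contra hcon
    push Not at hcon
    exact hi ((Module.forall_dual_apply_eq_zero_iff F (y i)).1 hcon)
  refine ⟨{ toFun := fun x i => l (x i), map_zero' := funext fun _ => map_zero l,
            map_add' := fun x y => funext fun i => map_add l (x i) (y i) }, fun g x => ?_, fun r x => ?_, fun h0 => ?_⟩
  · funext j
    show l (V K (emb f g) x j) = V F g (fun i => l (x i)) j
    rw [V_apply, V_apply, rho_emb, Matrix.mulVec, Matrix.mulVec, dotProduct, dotProduct, map_sum]
    refine Finset.sum_congr rfl fun k _ => ?_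
    rw [Matrix.map_apply, ← hsm, map_smul, smul_eq_mul]
  · funext j
    show l (f r * x j) = r * l (x j)
    rw [← hsm, map_smul, smul_eq_mul]
  · exact hl (congrFun h0 i)

end

section
variable {F : Type u} [Field F] {E : Type} [Field E] [Fintype E] [DecidableEq E] [CharP E 3]

/-- `h (-1) = -1` -/
theorem h_neg_one : (h (-1) : SpecialLinearGroup (Fin 2) E) = -1 := by
  apply Subtype.ext
  show !![((-1 : Eˣ) : E), 0; 0, ((-1 : Eˣ) : E)⁻¹] = -1
  rw [Matrix.one_fin_two]
  ext i j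
  fin_cases i <;> fin_cases j <;> simp [inv_neg]

/-- the representation of `SL(2, 9)` -/
noncomputable def rF (σ : SpecialLinearGroup (Fin 2) E →* Gh F) : Representation F (SpecialLinearGroup (Fin 2) E) (D1 → F) :=
  MonoidHom.comp (V F) σ

theorem rF_apply (σ : SpecialLinearGroup (Fin 2) E →* Gh F) (g : SpecialLinearGroup (Fin 2) E) (x : D1 → F) :
    rF σ g x = V F (σ g) x := rfl

theorem two_ne_of_three [CharP F 3] : (2 : F) ≠ 0 := by
  intro h0
  have h1 : ((2 : ℕ) : F) = 0 := by exact_mod_cast h0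
  rw [CharP.cast_eq_zero_iff F 3] at h1
  omega

/-- **highest weight vectors exist** -/
theorem exists_hw_V [CharP F 3] (ι : E →+* F) (hE : Fintype.card E = 3 ^ 2) {σ : SpecialLinearGroup (Fin 2) E →* Gh F}
    (hσ : V F (σ (-1)) = -1) : ∃ c, (c = 1 ∨ c = 3) ∧ ∃ x : D1 → F, x ≠ 0 ∧ IsHw ι (rF σ) c x := by
  classical
  set K := AlgebraicClosure F
  set f := algebraMap F K
  have hch : CharP K 3 := charP_of_injective_algebraMap f.injective 3
  have h2 : (2 : F) ≠ 0 := two_ne_of_three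
  have hm : ∀ x, rF ((emb f).comp σ) (h (-1)) x = -x := by
    intro x
    rw [h_neg_one, rF_apply]
    show V K (emb f (σ (-1))) x = -x
    rw [emb_neg f h2 hσ]
    rfl
  have D : Dul (rF ((emb f).comp σ)) (rF ((emb f).comp σ)) (sf K) :=
    ⟨fun g x y => sf_V _ x y, fun x hx => sf_nondeg' hx, fun y hy => sf_nondeg hy⟩
  obtain ⟨c, hc, hs⟩ := exists_small (f.comp ι) hE hm D (by rw [finrank_V]; norm_num)
  obtain ⟨y, hy0, hy⟩ := exists_hw_soc (f.comp ι) hE hc hs
  obtain ⟨T, hT1, hT2, hT3⟩ := exists_desc f hy0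
  exact ⟨c, hc, T y, hT3, hy.map T (fun g x => hT1 (σ g) x) fun a x => hT2 (ι a) x⟩

/-- **normalizing elements** -/
theorem hw_normal [CharP F 3] (ι : E →+* F) (hE : Fintype.card E = 3 ^ 2) {σ : SpecialLinearGroup (Fin 2) E →* Gh F}
    (hσ : V F (σ (-1)) = -1) {c : ℕ} (hc : c = 1 ∨ c = 3) {a₀ : Eˣ} (ha : ∀ a : Eˣ, a ∈ Subgroup.zpowers a₀) {g₀ : Gh F}
    (hn : ∀ s, ∃ s', σ s * g₀ = g₀ * σ s') (hg : g₀ * σ (h a₀) = σ (h a₀) * g₀) {x : D1 → F}
    (hx : IsHw ι (rF σ) c x) : IsHw ι (rF σ) c (V F g₀ x) := by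
  classical
  by_cases hx0 : x = 0
  · rw [hx0, map_zero]
    rw [hx0] at hx
    exact hx
  set K := AlgebraicClosure F
  set f := algebraMap F K
  have hch : CharP K 3 := charP_of_injective_algebraMap f.injective 3
  have h2 : (2 : F) ≠ 0 := two_ne_of_three
  obtain ⟨g₁, hg₁⟩ : ∃ g₁, g₁ = emb f g₀ := ⟨_, rfl⟩
  have hm : ∀ x, rF ((emb f).comp σ) (h (-1)) x = -x := by
    intro x
    rw [h_neg_one, rF_apply]
    show V K (emb f (σ (-1))) x = -x
    rw [emb_neg f h2 hσ]
    rfl
  have hxK : IsHw (f.comp ι) (rF ((emb f).comp σ)) c (exv f x) :=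
    hx.map (exv f) (fun g x => exv_V f (σ g) x) fun a x => exv_smul f (ι a) x
  have hxK0 : exv f x ≠ 0 := fun h0 => hx0 (exv_inj f (by rw [h0, map_zero]))
  obtain ⟨W, hW, hxW, hfr, -⟩ := hxK.plane (f.comp ι) hE hc hxK0
  have hn' : ∀ s, ∃ s', emb f (σ s) * g₁ = g₁ * emb f (σ s') := by
    intro s
    obtain ⟨s', hs'⟩ := hn s
    exact ⟨s', by rw [hg₁, ← map_mul, hs', map_mul]⟩
  have hg' : g₁ * emb f (σ (h a₀)) = emb f (σ (h a₀)) * g₁ := by
    rw [hg₁, ← map_mul, hg, map_mul]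
  have hinj : Function.Injective (V K g₁) := by
    intro v w hvw
    have h1 := congrArg (V K g₁⁻¹) hvw
    rwa [V_inv, V_inv] at h1
  have hW' : ∀ g, ∀ y ∈ W.map (V K g₁), rF ((emb f).comp σ) g y ∈ W.map (V K g₁) := by
    rintro g _ ⟨w, hw, rfl⟩
    obtain ⟨s', hs'⟩ := hn' g
    refine ⟨rF ((emb f).comp σ) s' w, hW s' w hw, ?_⟩
    show V K g₁ (V K (emb f (σ s')) w) = V K (emb f (σ g)) (V K g₁ w)
    rw [← V_mul, ← V_mul, hs']
  have hfr' : Module.finrank K (W.map (V K g₁)) = 2 := by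
    rw [← hfr]
    exact (Submodule.equivMapOfInjective (V K g₁) hinj W).finrank_eq.symm
  -- the second vector
  have hy : rF ((emb f).comp σ) (h a₀) (rF ((emb f).comp σ) w (exv f x)) =
      ((f.comp ι) (a₀ : E) ^ c)⁻¹ • rF ((emb f).comp σ) w (exv f x) := by
    have h3 := hxK.fh a₀⁻¹
    rw [← Module.End.mul_apply, ← map_mul, h_w, map_mul, Module.End.mul_apply, h3, map_smul, Units.val_inv_eq_inv_val,
      map_inv₀, inv_pow]
  have hres := IsHw.of_plane (f.comp ι) hE hc hm hW' hfr' ha (x := V K g₁ (exv f x))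
    (y := V K g₁ (rF ((emb f).comp σ) w (exv f x))) ⟨_, hxW, rfl⟩ ⟨_, hW w _ hxW, rfl⟩
    (fun h0 => hxK0 (hinj (by rw [h0, map_zero])))
    (fun h0 => by
      have h4 : rF ((emb f).comp σ) w (exv f x) = 0 := hinj (by rw [h0, map_zero])
      have h5 := rep_inv_apply (rF ((emb f).comp σ)) w (exv f x)
      rw [h4, map_zero] at h5
      exact hxK0 h5.symm)
    (by
      show V K (emb f (σ (h a₀))) (V K g₁ (exv f x)) = _
      rw [← V_mul, ← hg', V_mul]
      have h3 := hxK.fh a₀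
      rw [rF_apply] at h3
      show V K g₁ (V K (emb f (σ (h a₀))) (exv f x)) = _
      have h4 : V K (emb f (σ (h a₀))) (exv f x) = (f.comp ι) (a₀ : E) ^ c • exv f x := h3
      rw [h4, map_smul])
    (by
      show V K (emb f (σ (h a₀))) (V K g₁ (rF ((emb f).comp σ) w (exv f x))) = _
      rw [← V_mul, ← hg', V_mul]
      have h4 : V K (emb f (σ (h a₀))) (rF ((emb f).comp σ) w (exv f x)) =
        ((f.comp ι) (a₀ : E) ^ c)⁻¹ • rF ((emb f).comp σ) w (exv f x) := hy
      rw [h4, map_smul])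
  rw [hg₁, ← exv_V] at hres
  exact hres.of_map (exv f) (fun g x => exv_V f (σ g) x) (fun a x => exv_smul f (ι a) x) (exv_inj f)

end

end Cfsg.Agent.R2.T1.N6B
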