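import Cfsg.Agent.R2.T1.N6B.Cov

/-!
# The faithful modules of `SL(2, 9)` without submodules and quotients `V_1`, `V_3` (helper22)
-/

set_option autoImplicit false
set_option linter.unusedSectionVars false

namespace Cfsg.Agent.R2.T1.N6B

open Matrix (SpecialLinearGroup)
open Cfsg.Agent.H943.SL2Rel Cfsg.Agent.H943.SL2Mod Cfsg.Agent.H943.RepAdd Cfsg.Agent.R2.H28.SL2

universe u v w

variable {k : Type u} [Field k] [DecidableEq k] {F : Type} [Field F] [Fintype F] [DecidableEq F] (ι : F →+* k)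
variable [CharP k 3] [CharP F 3] [IsAlgClosed k]

/-- quotients -/
theorem mem_cf_of_surj {V B : Type u} [AddCommGroup V] [Module k V] [FiniteDimensional k V] [AddCommGroup B] [Module k B]
    {ρ : Representation k (SpecialLinearGroup (Fin 2) F) V} {σ : Representation k (SpecialLinearGroup (Fin 2) F) B} {c : ℕ}
    (hσ : IsV ι 3 σ c) (f : V →ₗ[k] B) (hf : ∀ g x, f (ρ g x) = σ g (f x)) (hs : Function.Surjective f) :
    c ∈ cf (Sy.{u, u, 0} ι 3) ρ := by
  have hfin := hσ.finite
  obtain ⟨hk, hr', hcf, -⟩ := cf_exact (Sy.{u, u, 0} ι 3) ρ σ f hf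
  rw [hcf, Multiset.mem_add]
  right
  have h3 : Eqv (subRep σ _ hr') σ := ⟨LinearEquiv.ofTop (LinearMap.range f) (LinearMap.range_eq_top.2 hs), fun g x => rfl⟩
  rw [cf_iso (Sy.{u, u, 0} ι 3) h3, cf_irr (Sy.{u, u, 0} ι 3) hσ]
  exact Multiset.mem_singleton_self c

/-- the kernel of a map with a retraction -/
theorem noQ_ker {V P : Type u} [AddCommGroup V] [Module k V] [AddCommGroup P] [Module k P]
    {ρ : Representation k (SpecialLinearGroup (Fin 2) F) V}
    (f : V →ₗ[k] P) (hk : ∀ g, ∀ x ∈ LinearMap.ker f, ρ g x ∈ LinearMap.ker f)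
    (r : V →ₗ[k] V) (hr : ∀ g x, r (ρ g x) = ρ g (r x)) (hfr : ∀ x, f (r x) = f x) (hr0 : ∀ x, f x = 0 → r x = 0) {c : ℕ}
    (hq : NoQ ι ρ c) : NoQ ι (subRep ρ (LinearMap.ker f) hk) c := by
  intro B _ _ σ hσ g hg
  let d : V →ₗ[k] LinearMap.ker f := LinearMap.codRestrict (LinearMap.ker f) (LinearMap.id - r) fun x => by
    rw [LinearMap.mem_ker, LinearMap.sub_apply, LinearMap.id_apply, map_sub, hfr, sub_self]
  have hd : ∀ x, (d x : V) = x - r x := fun _ => rfl
  have h1 := hq B σ hσ (g ∘ₗ d) fun s x => by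
    rw [LinearMap.comp_apply, LinearMap.comp_apply, ← hg]
    congr 1
    apply Subtype.ext
    rw [hd]
    show ρ s x - r (ρ s x) = ρ s (d x)
    rw [hd, map_sub, hr]
  refine LinearMap.ext fun x => ?_
  have h2 := LinearMap.congr_fun h1 (x : V)
  rw [LinearMap.comp_apply] at h2
  have h3 : d (x : V) = x := by
    apply Subtype.ext
    rw [hd, hr0 _ x.2, sub_zero]
  rw [h3] at h2
  exact h2

/-- **the count** -/
theorem three_dvd (hF : Fintype.card F = 3 ^ 2) (n : ℕ) : ∀ (V : Type u) [AddCommGroup V] [Module k V] [FiniteDimensional k V]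
    (ρ : Representation k (SpecialLinearGroup (Fin 2) F) V), Module.finrank k V ≤ n → (∀ x, ρ (h (-1)) x = -x) →
    (∀ c, c = 1 ∨ c = 3 → ¬ InSoc ι 3 ρ c ∧ NoQ ι ρ c) →
    3 ∣ (cf (Sy.{u, u, 0} ι 3) ρ).count 1 + (cf (Sy.{u, u, 0} ι 3) ρ).count 3 := by
  classical
  have : Fintype (SpecialLinearGroup (Fin 2) F) := Fintype.ofFinite _
  have h9 : Fintype.card F = 9 := by rw [hF]; norm_num
  induction n with
  | zero =>
    intro V _ _ _ ρ hn _ _
    have h1 : Subsingleton V := (Module.finrank_zero_iff (R := k)).1 (by omega)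
    rw [cf_zero]
    simp
  | succ n ih =>
    intro V _ _ _ ρ hn hm hno
    by_cases hnt : Nontrivial V
    swap
    · have := not_nontrivial_iff_subsingleton.1 hnt
      rw [cf_zero]
      simp
    obtain ⟨b, X, hX, hb⟩ := exists_inSoc ι 3 ρ
    have hbo := IsV.odd ι hb fun x => Subtype.ext (hm x)
    have hb8 := hb.choose
    have hb1 : b ≠ 1 := fun h0 => (hno 1 (Or.inl rfl)).1 ⟨X, hX, h0 ▸ hb⟩
    have hb3 : b ≠ 3 := fun h0 => (hno 3 (Or.inr rfl)).1 ⟨X, hX, h0 ▸ hb⟩
    obtain ⟨c, s, hc⟩ : ∃ c s, (c = 3 ∧ b = 5 ∧ s = ({5, 5, 1, 1, 3} : Multiset ℕ)) ∨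
        (c = 1 ∧ b = 7 ∧ s = ({7, 7, 3, 3, 1} : Multiset ℕ)) := by
      obtain ⟨r, hr⟩ := hbo
      have h1 : b = 5 ∨ b = 7 := by omega
      rcases h1 with h1 | h1
      · exact ⟨3, _, Or.inl ⟨rfl, h1, rfl⟩⟩
      · exact ⟨1, _, Or.inr ⟨rfl, h1, rfl⟩⟩
    have hs1 : s.count b = 2 := by
      rcases hc with ⟨-, rfl, rfl⟩ | ⟨-, rfl, rfl⟩ <;> decide
    have hs2 : s.count 1 + s.count 3 = 3 := by
      rcases hc with ⟨-, rfl, rfl⟩ | ⟨-, rfl, rfl⟩ <;> decide
    have hs3 : ∀ d ∈ s, d = b ∨ d = 1 ∨ d = 3 := by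
      rcases hc with ⟨-, rfl, rfl⟩ | ⟨-, rfl, rfl⟩ <;> decide
    obtain ⟨P, _, _, _, π, C⟩ := exists_cov ι hF hc
    obtain ⟨θ, hθ⟩ := C.hig
    have hPn : Nontrivial P := by
      by_contra h0
      have h1 := not_nontrivial_iff_subsingleton.1 h0
      have h2 := C.cf
      rw [cf_zero] at h2
      rw [← h2] at hs1
      simp at hs1
    obtain ⟨b', Y, hY, hYb⟩ := exists_inSoc ι 3 π
    obtain rfl : b' = b := C.sub b' ⟨Y, hY, hYb⟩
    -- the embedding of `X`
    obtain ⟨hb', φ₁, hφ₁⟩ := id hb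
    obtain ⟨hb'', φ₂, hφ₂⟩ := hYb
    let f₀ : X →ₗ[k] P := Y.subtype ∘ₗ (φ₂ : Vb ι b' →ₗ[k] Y) ∘ₗ (φ₁.symm : X →ₗ[k] Vb ι b')
    have hf₀ : ∀ x, f₀ x = (φ₂ (φ₁.symm x) : P) := fun _ => rfl
    have hf₀i : Function.Injective f₀ := by
      intro x y hxy
      rw [hf₀, hf₀] at hxy
      exact φ₁.symm.injective (φ₂.injective (Subtype.ext hxy))
    have hf₀e : ∀ g (x : X), f₀ ⟨ρ g x, hX g x x.2⟩ = π g (f₀ x) := by
      intro g x
      have h1 : φ₁.symm ⟨ρ g x, hX g x x.2⟩ = RB ι 3 hb' g (φ₁.symm x) := by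
        apply φ₁.injective
        rw [φ₁.apply_symm_apply, hφ₁, φ₁.apply_symm_apply]
        rfl
      rw [hf₀, hf₀, h1, hφ₂]
      rfl
    obtain ⟨f, hf, hff⟩ := hθ.ext ρ X hX f₀ hf₀e
    obtain ⟨hk, hr, hcf, -⟩ := cf_exact (Sy.{u, u, 0} ι 3) ρ π f hf
    have hXn := hb.irr.1
    have hrk : Module.finrank k (LinearMap.ker f) < Module.finrank k V := by
      have h1 := LinearMap.finrank_range_add_finrank_ker f
      have h2 : 0 < Module.finrank k (LinearMap.range f) := by
        rw [Nat.pos_iff_ne_zero, Ne, Submodule.finrank_eq_zero]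
        intro h3
        obtain ⟨x, hx⟩ := exists_ne (0 : X)
        apply hx
        apply hf₀i
        have h4 : f x ∈ LinearMap.range f := ⟨_, rfl⟩
        rw [h3, Submodule.mem_bot] at h4
        rw [← hff, h4, map_zero]
      omega
    -- the retraction
    suffices hS : ∃ r : V →ₗ[k] V, (∀ g x, r (ρ g x) = ρ g (r x)) ∧ (∀ x, f (r x) = f x) ∧ (∀ x, f x = 0 → r x = 0) ∧
        3 ∣ (cf (Sy.{u, u, 0} ι 3) (subRep π _ hr)).count 1 + (cf (Sy.{u, u, 0} ι 3) (subRep π _ hr)).count 3 by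
      obtain ⟨r, hr1, hr2, hr3, hd⟩ := hS
      have h1 := ih (LinearMap.ker f) (subRep ρ (LinearMap.ker f) hk) (by omega) (fun x => Subtype.ext (hm x)) fun c hc' =>
        ⟨fun h2 => (hno c hc').1 (h2.iso ι 3 (LinearMap.ker f).subtype (fun _ _ => rfl) (LinearMap.ker f).injective_subtype),
          noQ_ker ι f hk r hr1 hr2 hr3 (hno c hc').2⟩
      rw [hcf, Multiset.count_add, Multiset.count_add]
      have h2 := Nat.dvd_add h1 hd
      convert h2 using 1
      ring
    by_cases hT : LinearMap.range f = ⊤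
    · obtain ⟨t, ht1, ht2⟩ := hθ.lift ρ f hf (LinearMap.range_eq_top.1 hT)
      refine ⟨t ∘ₗ f, fun g x => ?_, fun x => ?_, fun x hx => ?_, ?_⟩
      · rw [LinearMap.comp_apply, LinearMap.comp_apply, hf, ht1]
      · rw [LinearMap.comp_apply, ht2]
      · rw [LinearMap.comp_apply, hx, map_zero]
      · have h3 : Eqv (subRep π _ hr) π := ⟨LinearEquiv.ofTop (LinearMap.range f) hT, fun g x => rfl⟩
        rw [cf_iso (Sy.{u, u, 0} ι 3) h3, C.cf, hs2]
    · -- the quotient of `P`
      have hPR : Nontrivial (P ⧸ LinearMap.range f) := Submodule.Quotient.nontrivial_iff.2 hT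
      have q1 : b' ∈ cf (Sy.{u, u, 0} ι 3) (quotRep π _ hr) := by
        obtain ⟨d, B, _, _, σ, g, hσ, hg, hgs⟩ := exists_quot ι (quotRep π _ hr)
        have h1 := mem_cf_of_surj ι hσ g hg hgs
        by_cases hdb : d = b'
        · rw [← hdb]
          exact h1
        · exfalso
          have h2 := C.quot d hdb B σ hσ (g ∘ₗ (LinearMap.range f).mkQ) fun s x => by
            rw [LinearMap.comp_apply, LinearMap.comp_apply, ← hg, quotRep_mk]
          have := hσ.irr.1
          obtain ⟨y, hy⟩ := exists_ne (0 : B)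
          obtain ⟨x, rfl⟩ := hgs y
          obtain ⟨z, rfl⟩ := Submodule.mkQ_surjective _ x
          exact hy (LinearMap.congr_fun h2 z)
      -- the image of `X` is everything
      let f₁ : X →ₗ[k] LinearMap.range f := LinearMap.codRestrict _ f₀ fun x => ⟨x, hff x⟩
      have hf₁ : ∀ x, (f₁ x : P) = f₀ x := fun _ => rfl
      have hf₁i : Function.Injective f₁ := fun x y hxy => by
        apply hf₀i
        rw [← hf₁, ← hf₁, hxy]
      have hf₁e : ∀ g (x : X), f₁ (subRep ρ X hX g x) = subRep π _ hr g (f₁ x) := fun g x => Subtype.ext (hf₀e g x)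
      have hsurj : LinearMap.range f₁ = ⊤ := by
        by_contra hne
        obtain ⟨hk1, hr1, -, -⟩ := cf_exact (Sy.{u, u, 0} ι 3) (subRep ρ X hX) (subRep π _ hr) f₁ hf₁e
        have hRn : Nontrivial (LinearMap.range f ⧸ LinearMap.range f₁) := Submodule.Quotient.nontrivial_iff.2 hne
        have e1 : cf (Sy.{u, u, 0} ι 3) (subRep (subRep π _ hr) _ hr1) = {b'} := by
          rw [← cf_irr (Sy.{u, u, 0} ι 3) hb]
          have h0 : Eqv (subRep ρ X hX) (subRep (subRep π _ hr) _ hr1) :=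
            ⟨LinearEquiv.ofInjective f₁ hf₁i, fun g x => Subtype.ext (hf₁e g x)⟩
          exact (cf_iso (Sy.{u, u, 0} ι 3) h0).symm
        obtain ⟨d, B, _, _, σ, g, hσ, hg, hgs⟩ := exists_quot ι (quotRep (subRep π _ hr) _ hr1)
        have h1 := mem_cf_of_surj ι hσ g hg hgs
        have hcR := cf_add (Sy.{u, u, 0} ι 3) (subRep π _ hr) _ hr1
        have hcP := cf_add (Sy.{u, u, 0} ι 3) π _ hr
        have hds : d ∈ s := by
          rw [← C.cf, hcP, Multiset.mem_add, hcR, Multiset.mem_add]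
          exact Or.inl (Or.inr h1)
        have hnz : ¬ (d = 1 ∨ d = 3) := by
          intro h2
          have h3 := (hno d h2).2 B σ hσ (g ∘ₗ (LinearMap.range f₁).mkQ ∘ₗ f.rangeRestrict) fun s x => by
            rw [LinearMap.comp_apply, LinearMap.comp_apply, LinearMap.comp_apply, LinearMap.comp_apply, ← hg, quotRep_mk]
            congr 2
            exact Subtype.ext (hf s x)
          have := hσ.irr.1
          obtain ⟨y, hy⟩ := exists_ne (0 : B)
          obtain ⟨x, rfl⟩ := hgs y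
          obtain ⟨z, rfl⟩ := Submodule.mkQ_surjective _ x
          obtain ⟨v, rfl⟩ := f.surjective_rangeRestrict z
          exact hy (LinearMap.congr_fun h3 v)
        have hdb : d = b' := by
          rcases hs3 d hds with h2 | h2
          · exact h2
          · exact absurd h2 hnz
        rw [hdb] at h1
        have h4 := Multiset.count_pos.2 h1
        have h5 := Multiset.count_pos.2 q1
        rw [← C.cf, hcP, hcR, Multiset.count_add, Multiset.count_add, e1, Multiset.count_singleton_self] at hs1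
        omega
      let e : X ≃ₗ[k] LinearMap.range f := LinearEquiv.ofBijective f₁ ⟨hf₁i, LinearMap.range_eq_top.1 hsurj⟩
      have he : ∀ x, ((e x : LinearMap.range f) : P) = f (x : V) := fun x => (hff x).symm
      refine ⟨X.subtype ∘ₗ (e.symm : LinearMap.range f →ₗ[k] X) ∘ₗ f.rangeRestrict, fun g x => ?_, fun x => ?_, fun x hx => ?_, ?_⟩
      · show ((e.symm (f.rangeRestrict (ρ g x)) : X) : V) = ρ g (e.symm (f.rangeRestrict x) : X)
        have h1 : e.symm (f.rangeRestrict (ρ g x)) = subRep ρ X hX g (e.symm (f.rangeRestrict x)) := by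
          apply e.injective
          rw [e.apply_symm_apply]
          show _ = f₁ _
          rw [hf₁e]
          show _ = subRep π _ hr g (e (e.symm (f.rangeRestrict x)))
          rw [e.apply_symm_apply]
          exact Subtype.ext (hf g x)
        rw [h1]
        rfl
      · show f ((e.symm (f.rangeRestrict x) : X) : V) = f x
        rw [← he, e.apply_symm_apply]
        rfl
      · show ((e.symm (f.rangeRestrict x) : X) : V) = 0
        have h1 : f.rangeRestrict x = 0 := Subtype.ext hx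
        rw [h1, map_zero]
        rfl
      · have h3 : Eqv (subRep ρ X hX) (subRep π _ hr) := ⟨e, hf₁e⟩
        rw [← cf_iso (Sy.{u, u, 0} ι 3) h3, cf_irr (Sy.{u, u, 0} ι 3) hb, Multiset.count_singleton, Multiset.count_singleton,
          if_neg (Ne.symm hb1), if_neg (Ne.symm hb3)]
        exact dvd_zero 3

end Cfsg.Agent.R2.T1.N6B
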