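import Cfsg.Agent.R2.T1.N6B.Dsc
import Cfsg.Agent.R2.T1.Five.Eight

/-!
# The fields (helper22)
-/

set_option autoImplicit false
set_option linter.unusedSectionVars false

namespace Cfsg.Agent.R2.T1.N6B

open Cfsg Cfsg.Lie Module
open Cfsg.Agent.H943.E7V.Block (D1 rho)
open Cfsg.Agent.H952.F4 (ev es MaxAlt)
open Cfsg.Agent.R2.T1
open Matrix (SpecialLinearGroup)
open Cfsg.Agent.H943.SL2Rel

universe u v w

theorem charP_three {F : Type*} [Field F] (h3 : (3 : F) = 0) : CharP F 3 := by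
  have h1 := CharP.ringChar_of_prime_eq_zero (R := F) Nat.prime_three (by exact_mod_cast h3)
  rw [← h1]
  exact ringChar.charP F

theorem pow_three_mod (n : ℕ) : (Odd n → 3 ^ n % 8 = 3) ∧ (Even n → 3 ^ n % 16 = 1 ∨ 3 ^ n % 16 = 9) := by
  have key : ∀ m : ℕ, 3 ^ (2 * m) % 16 = 1 ∨ 3 ^ (2 * m) % 16 = 9 := by
    intro m
    induction m with
    | zero => left; rfl
    | succ m ih =>
      rw [show 2 * (m + 1) = 2 * m + 2 by ring, pow_add]
      omega
  constructor
  · rintro ⟨m, rfl⟩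
    have h1 := key m
    rw [pow_succ]
    omega
  · rintro ⟨m, rfl⟩
    rw [← two_mul]
    exact key m

/-- embedding of the field with 9 elements -/
theorem exists_iota {E : Type v} [Field E] [Fintype E] (hE : Fintype.card E = 3 ^ 2) [CharP E 3] {F : Type u} [Field F] [Finite F]
    [CharP F 3] {n : ℕ} (hn : Even n) (hF : Nat.card F = 3 ^ n) : Nonempty (E →+* F) := by
  have := Fintype.ofFinite F
  letI : Algebra (ZMod 3) E := ZMod.algebra E 3
  letI : Algebra (ZMod 3) F := ZMod.algebra F 3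
  have h1 : 3 ^ Module.finrank (ZMod 3) E = 3 ^ 2 := by
    rw [FiniteField.pow_finrank_eq_card, hE]
  have h2 : 3 ^ Module.finrank (ZMod 3) F = 3 ^ n := by
    rw [FiniteField.pow_finrank_eq_card, ← Nat.card_eq_fintype_card, hF]
  have h3 := Nat.pow_right_injective (by norm_num : 2 ≤ 3) h1
  have h4 := Nat.pow_right_injective (by norm_num : 2 ≤ 3) h2
  obtain ⟨f⟩ := FiniteField.nonempty_algHom_of_finrank_dvd (F := ZMod 3) (K := E) (L := F) (by
    rw [h3, h4]
    exact hn.two_dvd)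
  exact ⟨f.toRingHom⟩

/-- a generator of the multiplicative group -/
theorem gen_pow_four {E : Type*} [Field E] [Fintype E] [DecidableEq E] (hE : Fintype.card E = 3 ^ 2) {a₀ : Eˣ}
    (ha : ∀ a : Eˣ, a ∈ Subgroup.zpowers a₀) : a₀ ^ 4 = -1 ∧ orderOf a₀ = 8 := by
  have ho : orderOf a₀ = 8 := by
    rw [orderOf_eq_card_of_forall_mem_zpowers ha, Nat.card_eq_fintype_card, Fintype.card_units, hE]
    norm_num
  refine ⟨?_, ho⟩
  have h8 : a₀ ^ 8 = 1 := by rw [← ho, pow_orderOf_eq_one]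
  have h4 : a₀ ^ 4 ≠ 1 := by
    intro h0
    have := orderOf_dvd_of_pow_eq_one h0
    rw [ho] at this
    omega
  have h5 : ((a₀ : E) ^ 4 - 1) * ((a₀ : E) ^ 4 + 1) = 0 := by
    have h6 : (a₀ : E) ^ 8 = 1 := by rw [← Units.val_pow_eq_pow_val, h8, Units.val_one]
    linear_combination h6
  rcases mul_eq_zero.1 h5 with h6 | h6
  · exfalso
    apply h4
    apply Units.ext
    rw [Units.val_pow_eq_pow_val, Units.val_one]
    linear_combination h6
  · apply Units.ext
    rw [Units.val_pow_eq_pow_val, Units.val_neg, Units.val_one]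
    linear_combination h6

/-- square roots -/
theorem exists_root {F : Type u} [Field F] [Finite F] [CharP F 3] (hq : Nat.card F % 16 = 1) {z : F} (hz : z ^ 8 = 1) :
    ∃ e : F, e * e = z := by
  have := Fintype.ofFinite F
  have hz0 : z ≠ 0 := by
    rintro rfl
    rw [zero_pow (by norm_num)] at hz
    exact zero_ne_one hz
  have hc : ringChar F ≠ 2 := by
    rw [ringChar.eq F 3]
    norm_num
  have h1 : IsSquare z := by
    rw [FiniteField.isSquare_iff hc hz0]
    rw [Nat.card_eq_fintype_card] at hq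
    obtain ⟨m, hm⟩ : ∃ m, Fintype.card F / 2 = 8 * m := ⟨Fintype.card F / 16, by omega⟩
    rw [hm, pow_mul, hz, one_pow]
  obtain ⟨e, he⟩ := h1
  exact ⟨e, he.symm⟩

end Cfsg.Agent.R2.T1.N6B
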