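import Mathlib
import Cfsg.Agent.R2.T1.Five.Eight
import Cfsg.Agent.H952.F4.TabLin

/-!
# Elements of order 8 are not conjugate to their negatives (helper22)
-/

set_option autoImplicit false
set_option maxRecDepth 100000
set_option linter.unusedSectionVars false

namespace Cfsg.Agent.R2.T1.N6B

open Cfsg Cfsg.Lie Module
open Cfsg.Agent.H943.E7V.Block (D1 rho)
open Cfsg.Agent.H952.F4 (ev es)
open Cfsg.Agent.R2.T1 Cfsg.Agent.R2.T1.Five

universe u

theorem ev_neg_eq {K V : Type*} [Field K] [AddCommGroup V] [Module K V] (T : Module.End K V) (μ : K) :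
    ev (-T) μ = ev T (-μ) := by
  have h : (-T).eigenspace μ = T.eigenspace (-μ) := by
    ext v
    rw [Module.End.mem_eigenspace_iff, Module.End.mem_eigenspace_iff, LinearMap.neg_apply, neg_smul, neg_eq_iff_eq_neg]
  unfold ev
  rw [h]

section
variable {F : Type u} [Field F] [Finite F]

/-- **no element of order 8 is conjugate to its negative** -/
theorem no_neg (h2 : (2 : F) ≠ 0) {k g : Gh F} (hk : V F (k ^ 4) = -1) (hg : V F (g * k * g⁻¹) = - V F k) : False := by
  have h8 : ((8 : ℕ) : F) ≠ 0 := by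
    have : ((8 : ℕ) : F) = 2 * (2 * 2) := by norm_num
    rw [this]
    exact mul_ne_zero h2 (mul_ne_zero h2 h2)
  obtain ⟨p, hpp, hp, hcop⟩ := exists_char h8
  set f := algebraMap F (AlgebraicClosure F) with hf
  have hx : k ^ 8 = 1 := by
    apply V_injective
    have h1 : k ^ 8 = k ^ 4 * k ^ 4 := by rw [← pow_add]
    rw [h1, map_mul, hk, map_one]
    refine LinearMap.ext fun v => ?_
    show - - v = v
    exact _root_.neg_neg v
  have hch : CharP (AlgebraicClosure F) p := charP_of_injective_algebraMap f.injective p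
  have hNk : ((8 : ℕ) : AlgebraicClosure F) ≠ 0 := by
    intro h0
    have h1 : p ∣ 8 := (CharP.cast_eq_zero_iff (AlgebraicClosure F) p 8).1 h0
    have h2 : p ∣ 1 := by
      rw [← hcop]
      exact Nat.dvd_gcd h1 dvd_rfl
    exact (Fact.out : p.Prime).one_lt.ne' (Nat.dvd_one.1 h2)
  have : NeZero ((8 : ℕ) : AlgebraicClosure F) := ⟨hNk⟩
  obtain ⟨ζ, hζ⟩ : ∃ ζ : AlgebraicClosure F, IsPrimitiveRoot ζ 8 :=
    HasEnoughRootsOfUnity.exists_primitiveRoot (AlgebraicClosure F) 8
  have hζ0 : ζ ≠ 0 := hζ.ne_zero (by norm_num)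
  have hζu : IsPrimitiveRoot (Units.mk0 ζ hζ0) 8 := IsPrimitiveRoot.coe_units_iff.1 hζ
  obtain ⟨m, hP, h1⟩ := exists_row chkP8 (by norm_num) hζu (frame p (by norm_num) hcop hx)
  have h2K : (2 : AlgebraicClosure F) ≠ 0 := by
    have h := (map_ne_zero f).2 h2
    rwa [map_ofNat] at h
  have hneg : ∀ a b : Gh F, V F a = - V F b → V (AlgebraicClosure F) (emb f a) = - V (AlgebraicClosure F) (emb f b) := by
    intro a b hab
    have h3 : (rho F a) = -(rho F b) := by
      have h4 : Matrix.toLin' (rho F a) = Matrix.toLin' (-(rho F b)) := by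
        rw [map_neg]
        exact hab
      exact Matrix.toLin'.injective h4
    refine LinearMap.ext fun v => ?_
    rw [V_apply, rho_emb, h3]
    show _ = -(rho (AlgebraicClosure F) (emb f b)).mulVec v
    rw [rho_emb, ← Matrix.neg_mulVec]
    congr 1
    ext i j
    simp
  have hk' : V (AlgebraicClosure F) (emb f k ^ 4) = -1 := by
    have h3 := hneg (k ^ 4) 1 (by rw [hk, map_one])
    rwa [map_one, map_one, map_pow] at h3
  have hev : ∀ j, ev (V (AlgebraicClosure F) (emb f k)) (ζ ^ (2 * j)) = 0 := by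
    intro j
    rw [ev, Submodule.finrank_eq_zero, eq_bot_iff]
    intro v hv
    rw [Module.End.mem_eigenspace_iff] at hv
    have h3 : ∀ n : ℕ, V (AlgebraicClosure F) (emb f k ^ n) v = ((ζ ^ (2 * j)) ^ n) • v := by
      intro n
      induction n with
      | zero => rw [pow_zero, pow_zero, map_one, one_smul]; rfl
      | succ n ih => rw [pow_succ', map_mul, Module.End.mul_apply, ih, map_smul, hv, smul_smul, pow_succ]
    have h4 := h3 4
    have h5 : (ζ ^ (2 * j)) ^ 4 = 1 := by
      rw [← pow_mul, show 2 * j * 4 = 8 * j by ring, pow_mul, hζ.pow_eq_one, one_pow]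
    rw [hk', h5, one_smul] at h4
    have h6 : -v = v := h4
    have h7 : (2 : AlgebraicClosure F) • v = 0 := by
      rw [two_smul]
      nth_rewrite 1 [← h6]
      exact neg_add_cancel v
    exact (Submodule.mem_bot _).2 ((smul_eq_zero.1 h7).resolve_left h2K)
  have e0 := h1 0 (by norm_num)
  have e1 := h1 1 (by norm_num)
  have e2 := h1 2 (by norm_num)
  have e4 := h1 4 (by norm_num)
  have e5 := h1 5 (by norm_num)
  have e6 := h1 6 (by norm_num)
  change ev (V (AlgebraicClosure F) (emb f k)) (ζ ^ 0) = _ at e0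
  change ev (V (AlgebraicClosure F) (emb f k)) (ζ ^ 1) = _ at e1
  change ev (V (AlgebraicClosure F) (emb f k)) (ζ ^ 2) = _ at e2
  change ev (V (AlgebraicClosure F) (emb f k)) (ζ ^ 4) = _ at e4
  change ev (V (AlgebraicClosure F) (emb f k)) (ζ ^ 5) = _ at e5
  change ev (V (AlgebraicClosure F) (emb f k)) (ζ ^ 6) = _ at e6
  rw [show 0 = 2 * 0 by norm_num, hev] at e0
  rw [show 2 = 2 * 1 by norm_num, hev] at e2
  rw [show 4 = 2 * 2 by norm_num, hev] at e4
  rw [show 6 = 2 * 3 by norm_num, hev] at e6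
  have hz4 : ζ ^ 4 = -1 := by
    have h3 : (ζ ^ 4 - 1) * (ζ ^ 4 + 1) = 0 := by linear_combination hζ.pow_eq_one
    rcases mul_eq_zero.1 h3 with h4 | h4
    · exfalso
      have h5 := (hζ.pow_eq_one_iff_dvd 4).1 (by linear_combination h4)
      omega
    · linear_combination h4
  have h15 : m 1 = m 5 := by
    rw [← e1, ← e5]
    have h3 := Cfsg.Agent.H952.F4.TabLin.ev_conj (V (AlgebraicClosure F)) (emb f g) (emb f k) (ζ ^ 1)
    rw [← map_mul, ← map_inv, ← map_mul, hneg _ _ hg, ev_neg_eq] at h3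
    rw [← h3]
    congr 1
    rw [pow_succ ζ 4, hz4]
    ring
  unfold P8 at hP
  simp only [← e0, ← e2, ← e4, ← e6] at hP
  simp [h15] at hP

end

end Cfsg.Agent.R2.T1.N6B
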