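import Mathlib
import Cfsg.Agent.R2.T1.N6B.Neg
import Cfsg.Agent.R2.T1.Inf.Cov
import Cfsg.Agent.R2.T1.Inf.Cnt

/-!
# The covering group of `A₆`: automorphisms (helper22)

* `hodd` : no element of `H` acts on `A₆` as an odd permutation;
* `conj_four` : the elements of order 4 of `A₆` are conjugate.
-/

set_option autoImplicit false
set_option maxRecDepth 100000
set_option linter.unusedSectionVars false

namespace Cfsg.Agent.R2.T1.N6B

open Cfsg Cfsg.Lie Module Equiv
open Cfsg.Agent.H943.E7V.Block (D1 rho)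
open Cfsg.Agent.H952.F4 (ev es MaxAlt)
open Cfsg.Agent.R2.T1

universe u

/-- `A₆` -/
abbrev A6 : Type := ↥(alternatingGroup (Fin 6))

/-- conjugation with a permutation -/
def cj (τ : Perm (Fin 6)) (a : A6) : A6 := ⟨τ * a * τ⁻¹, by
  rw [Perm.mem_alternatingGroup, Perm.sign_mul, Perm.sign_mul, Perm.sign_inv, Perm.mem_alternatingGroup.1 a.2, mul_one,
    Int.units_mul_self]⟩

theorem cj_coe (τ : Perm (Fin 6)) (a : A6) : ((cj τ a : A6) : Perm (Fin 6)) = τ * a * τ⁻¹ := rfl

theorem cj_mul (τ μ : Perm (Fin 6)) (a : A6) : cj τ (cj μ a) = cj (τ * μ) a := by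
  apply Subtype.ext
  rw [cj_coe, cj_coe, cj_coe, mul_inv_rev]
  simp only [mul_assoc]

theorem cj_self (c a : A6) : cj (c : Perm (Fin 6)) a = c * a * c⁻¹ := rfl

theorem cj_one (a : A6) : cj 1 a = a := by
  apply Subtype.ext
  rw [cj_coe, inv_one, mul_one, one_mul]

section
variable {F : Type u} [Field F] {H : Subgroup ↥(chevE7.group F)} {φ : A6 →* ↥(chevE7.group F)}

/-- `s` acts as `τ` -/
def Acts (φ : A6 →* ↥(chevE7.group F)) (s : ↥(chevE7.group F)) (τ : Perm (Fin 6)) : Prop := ∀ a, s * φ a * s⁻¹ = φ (cj τ a)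

theorem Acts.mul {s r : ↥(chevE7.group F)} {τ μ : Perm (Fin 6)} (hs : Acts φ s τ) (hr : Acts φ r μ) : Acts φ (s * r) (τ * μ) := by
  intro a
  have h1 : s * r * φ a * (s * r)⁻¹ = s * (r * φ a * r⁻¹) * s⁻¹ := by group
  rw [h1, hr, hs, cj_mul]

theorem Acts.self (c : A6) : Acts φ (φ c) c := by
  intro a
  rw [cj_self, map_mul, map_mul, map_inv]

theorem Acts.inv {s : ↥(chevE7.group F)} {τ : Perm (Fin 6)} (hs : Acts φ s τ) : Acts φ s⁻¹ τ⁻¹ := by
  intro a
  have h1 := hs (cj τ⁻¹ a)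
  rw [cj_mul, mul_inv_cancel, cj_one] at h1
  rw [← h1]
  group

theorem Acts.uniq (hM : MaxAlt H 6 φ) {s r : ↥(chevE7.group F)} {τ : Perm (Fin 6)} (hs : Acts φ s τ) (hr : Acts φ r τ) :
    s = r := by
  have h1 : r⁻¹ * s = 1 := by
    refine centralizer_eq hM (by norm_num) fun a => ?_
    have h2 : s * φ a * s⁻¹ = r * φ a * r⁻¹ := by rw [hs, hr]
    calc φ a * (r⁻¹ * s) = r⁻¹ * (r * φ a * r⁻¹) * s := by group
      _ = r⁻¹ * (s * φ a * s⁻¹) * s := by rw [h2]
      _ = r⁻¹ * s * φ a := by group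
  exact (inv_mul_eq_one.1 h1).symm

/-- the transposition `(4 5)` -/
def t45 : Perm (Fin 6) := swap 4 5
/-- the transposition `(2 3)` -/
def t23 : Perm (Fin 6) := swap 2 3
/-- `(2 4)(3 5)` -/
def dd : A6 := ⟨swap 2 4 * swap 3 5, by rw [Perm.mem_alternatingGroup]; decide⟩
/-- `(4 5)(2 3)` -/
def ee : A6 := ⟨swap 4 5 * swap 2 3, by rw [Perm.mem_alternatingGroup]; decide⟩
/-- `(0 1 2)` -/
def c012 : A6 := ⟨swap 0 1 * swap 1 2, by rw [Perm.mem_alternatingGroup]; decide⟩

theorem ee_type : (ee : Perm (Fin 6)).cycleType = {2, 2} := by decide +kernel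
theorem ce_type : ((c012 * ee * (c012 * ee) : A6) : Perm (Fin 6)).cycleType = {2, 2} := by decide +kernel
theorem c012_cube : c012 ^ 3 = 1 := by decide +kernel
theorem c012_t : cj t45 c012 = c012 := by decide +kernel
theorem dtd : (dd : Perm (Fin 6)) * t45 * (dd : Perm (Fin 6))⁻¹ = t23 := by decide +kernel
theorem tt : t45 * t45 = 1 := by decide +kernel
theorem te : t45 * t23 = (ee : Perm (Fin 6)) := rfl
theorem ttt : t23 * t45 * t23⁻¹ = t45 := by decide +kernel

/-- **no element of `H` acts as an odd permutation** -/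
theorem hodd [Finite F] (h2 : (2 : F) ≠ 0) (hM : MaxAlt H 6 φ) (hc : Cover φ) (h : ↥(chevE7.group F)) (τ : Perm (Fin 6))
    (hτ : Perm.sign τ = -1) (hact : Acts φ h τ) : False := by
  -- the element acting as a transposition
  have hc0 : t45 * τ⁻¹ ∈ alternatingGroup (Fin 6) := by
    rw [Perm.mem_alternatingGroup, Perm.sign_mul, Perm.sign_inv, hτ]
    decide
  have hs : Acts φ (φ ⟨t45 * τ⁻¹, hc0⟩ * h) t45 := by
    have h1 := (Acts.self (φ := φ) ⟨t45 * τ⁻¹, hc0⟩).mul hact
    have h3 : t45 * τ⁻¹ * τ = t45 := by group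
    have h4 : ((⟨t45 * τ⁻¹, hc0⟩ : A6) : Perm (Fin 6)) * τ = t45 := h3
    rwa [h4] at h1
  obtain ⟨S, hS⟩ := ad_surjective (φ ⟨t45 * τ⁻¹, hc0⟩ * h)
  rw [← hS] at hs
  obtain ⟨D, hD⟩ := ad_surjective (φ dd)
  have hr : Acts φ (ad F (D * S * D⁻¹)) t23 := by
    rw [map_mul, map_mul, map_inv, hD]
    have h1 := ((Acts.self (φ := φ) dd).mul hs).mul (Acts.self (φ := φ) dd).inv
    rwa [dtd] at h1
  have hSS : ad F (S * S) = 1 := by
    rw [map_mul]
    refine Acts.uniq hM (hs.mul hs) ?_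
    rw [tt]
    intro a
    rw [cj_one, one_mul, inv_one, mul_one]
  obtain ⟨R, hR⟩ : ∃ R, R = D * S * D⁻¹ := ⟨_, rfl⟩
  rw [← hR] at hr
  have hRR : R * R = S * S := by
    have h1 : R * R = D * (S * S) * D⁻¹ := by rw [hR]; group
    rw [h1, ker_comm hSS D]
    group
  have hSR : ad F (S * R) = φ ee := by
    rw [map_mul]
    refine Acts.uniq hM (hs.mul hr) ?_
    rw [te]
    exact Acts.self ee
  have hRS : ad F (R * S * R⁻¹) = ad F S := by
    rw [map_mul, map_mul, map_inv]
    refine Acts.uniq hM ((hr.mul hs).mul hr.inv) ?_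
    rw [ttt]
    exact hs
  have hsq := hc.sq (by norm_num) hM.inj ee_type hSR
  have h11 : (1 : Module.End F (D1 → F)) ≠ -1 := by
    intro h0
    have h7 := congrArg (fun T : Module.End F (D1 → F) => T (fun _ => 1)) h0
    have h8 := congrFun h7 topv
    change (1 : F) = -1 at h8
    apply h2
    linear_combination h8
  rcases ad_eq_iff.1 hRS with h1 | h1
  · -- `S` and `R` commute
    have h3 : S * R * (S * R) = (S * S) * (S * S) := by
      have h4 : R * S = S * R := by
        nth_rewrite 2 [← h1]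
        group
      calc S * R * (S * R) = S * (R * S) * R := by group
        _ = S * (S * R) * R := by rw [h4]
        _ = S * S * (R * R) := by group
        _ = S * S * (S * S) := by rw [hRR]
    rw [h3, ker_sq hSS, map_one] at hsq
    exact h11 hsq
  · -- the element of order 8
    obtain ⟨C, hC, hC3⟩ := odd_lift (F := F) (g := φ c012) (k := 3) (by decide) (by rw [← map_pow, c012_cube, map_one])
    have hSC : S * C * S⁻¹ = C := by
      refine odd_unique (k := 3) (by decide) ?_ ?_ hC3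
      · rw [map_mul, map_mul, map_inv, hC, hs, c012_t]
      · rw [conj_pow, hC3, mul_one, mul_inv_cancel]
    have hx4 : V F ((C * (S * R)) ^ 4) = -1 := by
      have h3 : ad F (C * (S * R) * (C * (S * R))) = φ (c012 * ee * (c012 * ee)) := by
        rw [map_mul, map_mul (ad F) C, hC, hSR, ← map_mul, ← map_mul]
      have h4 := hc.sq (by norm_num) hM.inj ce_type h3
      have h5 : (C * (S * R)) ^ 4 = C * (S * R) * (C * (S * R)) * (C * (S * R) * (C * (S * R))) := by
        rw [show (4 : ℕ) = 2 * 2 from rfl, pow_mul, sq, sq]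
      rw [h5]
      exact h4
    refine no_neg h2 (k := C * (S * R)) (g := S) hx4 ?_
    have h3 : S * (C * (S * R)) * S⁻¹ = (S * C * S⁻¹) * (S * (S * R) * S⁻¹) := by group
    rw [h3, hSC]
    -- `V (S R) = - V (R S)`
    have h5 : ∀ v, V F (R * S) v = - V F (S * R) v := by
      intro v
      have h6 : V F (R * S) v = V F (R * S * R⁻¹) (V F R v) := by
        rw [← V_mul, inv_mul_cancel_right]
      rw [h6, h1, LinearMap.neg_apply, V_mul]
    have h7 : ∀ v, V F (S * (S * R) * S⁻¹) v = - V F (S * R) v := by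
      intro v
      have h8 : V F (S * (S * R) * S⁻¹) v = V F S (V F (S * R) (V F S⁻¹ v)) := by
        rw [V_mul, V_mul]
      have h9 : V F (S * R) (V F S⁻¹ v) = - V F (R * S) (V F S⁻¹ v) := by rw [h5, _root_.neg_neg]
      rw [h8, h9, ← V_mul, mul_assoc, mul_inv_cancel, mul_one, map_neg, ← V_mul]
    refine LinearMap.ext fun v => ?_
    rw [V_mul, h7, map_neg, LinearMap.neg_apply, ← V_mul]

end

end Cfsg.Agent.R2.T1.N6B
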