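import Cfsg.Agent.R2.T1.N6B.Dvd
import Cfsg.Agent.R2.H28.SL2.Dims

/-!
# Small submodules of faithful self-dual modules of `SL(2, 9)` in characteristic three (helper22)
-/

set_option autoImplicit false
set_option linter.unusedSectionVars false

namespace Cfsg.Agent.R2.T1.N6B

open Matrix (SpecialLinearGroup)
open Cfsg.Agent.H943.SL2Rel Cfsg.Agent.H943.SL2Mod Cfsg.Agent.H943.RepAdd Cfsg.Agent.R2.H28.SL2

universe u v w

variable {k : Type u} [Field k] [DecidableEq k] {F : Type} [Field F] [Fintype F] [DecidableEq F] (ι : F →+* k)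
variable [CharP k 3] [CharP F 3] [IsAlgClosed k]

/-- **small submodules** -/
theorem exists_small (hF : Fintype.card F = 3 ^ 2) {V : Type u} [AddCommGroup V] [Module k V] [FiniteDimensional k V]
    {ρ : Representation k (SpecialLinearGroup (Fin 2) F) V} (hm : ∀ x, ρ (h (-1)) x = -x) {β : V →ₗ[k] V →ₗ[k] k}
    (D : Dul ρ ρ β) (h6 : ¬ 6 ∣ Module.finrank k V) : ∃ c, (c = 1 ∨ c = 3) ∧ InSoc ι 3 ρ c := by
  by_contra hcon
  push Not at hcon
  have h1 := three_dvd ι hF _ V ρ le_rfl hm fun c hc => ⟨hcon c hc, fun B _ _ σ hσ f hf => by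
    by_contra hf0
    exact hcon c hc (inSoc_of_hom' ι 3 D hσ f hf hf0)⟩
  have h2 := finrank_cf ι 3 _ V ρ le_rfl
  have h3 : ∀ b ∈ cf (Sy.{u, u, 0} ι 3) ρ, b = 1 ∨ b = 3 ∨ b = 5 ∨ b = 7 := by
    intro b hb
    obtain ⟨r, hr⟩ := odd_cf ι hm b hb
    have := cf_lt ι 3 hF ρ b hb
    omega
  have c0 : (Bf k 0).card = 1 := card_Bf_zero
  have c1 : (Bf k 1).card = 2 := by rw [card_Bf_low k 3]; simp [c0]
  have c2 : (Bf k 2).card = 3 := by rw [card_Bf_low k 3]; simp [c0]
  have c3 : (Bf k 3).card = 2 := by rw [card_Bf_low k 3]; simp [c1]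
  have c5 : (Bf k 5).card = 6 := by rw [card_Bf_low k 3]; simp [c1]
  have c7 : (Bf k 7).card = 6 := by rw [card_Bf_low k 3]; simp [c2]
  have key : ∀ s : Multiset ℕ, (∀ b ∈ s, b = 1 ∨ b = 3 ∨ b = 5 ∨ b = 7) →
      (s.map fun b => (Bf k b).card).sum = 2 * (s.count 1 + s.count 3) + 6 * (s.count 5 + s.count 7) := by
    intro s
    induction s using Multiset.induction with
    | empty => simp
    | cons a s ih =>
      intro hs
      have h4 := ih fun b hb => hs b (Multiset.mem_cons_of_mem hb)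
      rw [Multiset.map_cons, Multiset.sum_cons, h4]
      simp only [Multiset.count_cons]
      rcases hs a (Multiset.mem_cons_self a s) with rfl | rfl | rfl | rfl
      · rw [c1]; simp; ring
      · rw [c3]; simp; ring
      · rw [c5]; simp; ring
      · rw [c7]; simp; ring
  rw [key _ h3] at h2
  omega

end Cfsg.Agent.R2.T1.N6B
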