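import Cfsg.Agent.R2.T1.N6B.Hig

/-!
# The Steinberg module satisfies Higman's criterion (helper22)
-/

set_option autoImplicit false
set_option linter.unusedSectionVars false

namespace Cfsg.Agent.R2.T1.N6B

open Matrix (SpecialLinearGroup)
open Cfsg.Agent.H943.SL2Rel Cfsg.Agent.H943.SL2Mod Cfsg.Agent.R2.H28.SL2

universe u v w

/-- sums over the big cell -/
theorem sum_bruhat {F : Type*} [Field F] [Fintype F] [DecidableEq F] [Fintype (SpecialLinearGroup (Fin 2) F)]
    {M : Type*} [AddCommMonoid M] (Φ : SpecialLinearGroup (Fin 2) F → M) (h0 : ∀ a t, Φ (h a * u t) = 0) :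
    ∑ g, Φ g = ∑ t, ∑ a, ∑ s, Φ (u s * h a * w * u t) := by
  have hm : ∀ (s : F) (a : Fˣ) (t : F), ((u s * h a * w * u t : SpecialLinearGroup (Fin 2) F) : Matrix (Fin 2) (Fin 2) F) =
      !![-(s * (a : F)⁻¹), a - s * (a : F)⁻¹ * t; -(a : F)⁻¹, -((a : F)⁻¹ * t)] := by
    intro s a t
    show !![(1 : F), s; 0, 1] * !![(a : F), 0; 0, (a : F)⁻¹] * !![0, 1; -1, 0] * !![1, t; 0, 1] = _
    simp only [Matrix.mul_fin_two]
    ext i j
    fin_cases i <;> fin_cases j <;> simp
    ring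
  have hinj : Function.Injective fun x : F × Fˣ × F => (u x.2.2 * h x.2.1 * w * u x.1 : SpecialLinearGroup (Fin 2) F) := by
    rintro ⟨t, a, s⟩ ⟨t', a', s'⟩ he
    have he' : (u s * h a * w * u t : SpecialLinearGroup (Fin 2) F) = u s' * h a' * w * u t' := he
    have h1 := congrArg (fun g : SpecialLinearGroup (Fin 2) F => (g : Matrix (Fin 2) (Fin 2) F)) he'
    simp only [hm] at h1
    have e10 := congrFun (congrFun h1 1) 0
    have e00 := congrFun (congrFun h1 0) 0
    have e11 := congrFun (congrFun h1 1) 1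
    simp at e10 e00 e11
    have ha : a = a' := Units.ext e10
    subst ha
    have h2 : (a : F)⁻¹ ≠ 0 := inv_ne_zero a.ne_zero
    have hs : s = s' := mul_right_cancel₀ h2 e00
    have ht : t = t' := mul_left_cancel₀ h2 e11
    rw [hs, ht]
  rw [← Fintype.sum_of_injective _ hinj (fun x => Φ (u x.2.2 * h x.2.1 * w * u x.1)) Φ (fun g hg => ?_) fun _ => rfl,
    Fintype.sum_prod_type]
  · refine Finset.sum_congr rfl fun s _ => ?_
    rw [Fintype.sum_prod_type]
  · rcases bruhat g with ⟨a, t, rfl⟩ | ⟨s, a, t, rfl⟩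
    · exact h0 a t
    · exact absurd ⟨(t, a, s), rfl⟩ hg

variable {k : Type u} [Field k] [DecidableEq k] {F : Type w} [Field F] [Fintype F] [DecidableEq F] (ι : F →+* k)
variable (p : ℕ) [Fact p.Prime] [CharP k p] [CharP F p]

/-- **the Steinberg module** -/
theorem hig_st [Fintype (SpecialLinearGroup (Fin 2) F)] {V : Type*} [AddCommGroup V] [Module k V]
    {ρ : Representation k (SpecialLinearGroup (Fin 2) F) V}
    (hV : IsV ι p ρ (Fintype.card F - 1)) : ∃ θ : V →ₗ[k] V, Hig ρ θ := by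
  have hirr := hV.irr
  obtain ⟨m, hm0, hmu, hmh, hmS, -⟩ := hV.hw
  obtain ⟨f, hf0, hfu, hfh⟩ := hV.lw
  have hq := one_lt (F := F)
  have hcard : ((Fintype.card F : ℕ) : k) = 0 := by
    have h1 : ((Fintype.card F : ℕ) : F) = 0 := Nat.cast_card_eq_zero F
    have h2 := congrArg ι h1
    rwa [map_natCast, map_zero] at h2
  have hcb : cb k F (Fintype.card F - 1) = -1 := by
    unfold cb
    rw [if_neg (lt_irrefl _)]
  rw [hcb, neg_one_smul] at hmS
  have hpow : ∀ a : Fˣ, ι (a : F) ^ (Fintype.card F - 1) = 1 := by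
    intro a
    rw [← map_pow, FiniteField.pow_card_sub_one_eq_one _ a.ne_zero, map_one]
  have hmh' : ∀ a, ρ (h a) m = m := fun a => by rw [hmh, hpow, one_smul]
  have hfh' : ∀ a x, f (ρ (h a) x) = f x := fun a x => by
    have := hfh a⁻¹ x
    rwa [inv_inv, hpow, one_mul] at this
  -- the Weyl element
  have hww : ρ w (ρ w m) = m := by
    rw [← Module.End.mul_apply, ← map_mul, w_w, hmh']
  have hwi : ρ w⁻¹ m = ρ w m := by
    conv_lhs => rw [← hww]
    rw [rep_inv_apply]
  have hfm : f m = 0 := by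
    have h1 := congrArg f hmS
    rw [SS_apply, map_sum] at h1
    have h2 : ∀ t ∈ (Finset.univ : Finset F), f (ρ (u t) (ρ w m)) = f (ρ w m) := fun t _ => hfu t _
    rw [Finset.sum_congr rfl h2, Finset.sum_const, Finset.card_univ, nsmul_eq_mul, hcard, zero_mul, map_neg] at h1
    exact neg_eq_zero.1 h1.symm
  have hfw : f (ρ w m) ≠ 0 := by
    intro h0
    apply hf0
    have key : ∀ g, f (ρ g m) = 0 := by
      intro g
      rcases bruhat g with ⟨a, t, rfl⟩ | ⟨s, a, t, rfl⟩
      · rw [map_mul, Module.End.mul_apply, hmu, hmh', hfm]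
      · rw [map_mul, map_mul, map_mul, Module.End.mul_apply, Module.End.mul_apply, Module.End.mul_apply, hmu, hfu, hfh', h0]
    -- the largest invariant subspace of the kernel
    let N : Submodule k V := ⨅ g, (LinearMap.ker (f ∘ₗ ρ g))
    have hN : ∀ x, x ∈ N ↔ ∀ g, f (ρ g x) = 0 := by
      intro x
      rw [Submodule.mem_iInf]
      rfl
    have hNi : ∀ g, ∀ x ∈ N, ρ g x ∈ N := by
      intro g x hx
      rw [hN] at hx ⊢
      intro g'
      rw [← Module.End.mul_apply, ← map_mul]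
      exact hx _
    rcases hirr.2 N hNi with h1 | h1
    · have h2 : m ∈ N := (hN m).2 key
      rw [h1, Submodule.mem_bot] at h2
      exact absurd h2 hm0
    · ext x
      have h2 : x ∈ N := by rw [h1]; trivial
      have h3 := (hN x).1 h2 1
      rwa [map_one, Module.End.one_apply] at h3
  -- the map
  let θ : V →ₗ[k] V := f.smulRight (ρ w m)
  have hθ : ∀ x, θ x = f x • ρ w m := fun _ => rfl
  have hsum : avg ρ ρ θ m = -(f (ρ w m)) • m := by
    rw [avg_apply, ← Equiv.sum_comp (Equiv.inv (SpecialLinearGroup (Fin 2) F))]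
    rw [sum_bruhat]
    · have h1 : ∀ s a t, ρ ((Equiv.inv (SpecialLinearGroup (Fin 2) F)) (u s * h a * w * u t))
          (θ (ρ ((Equiv.inv (SpecialLinearGroup (Fin 2) F)) (u s * h a * w * u t))⁻¹ m)) =
          f (ρ w m) • ρ (u (-t)) (ρ w⁻¹ (ρ (h a⁻¹) (ρ (u (-s)) (ρ w m)))) := by
        intro s a t
        rw [Equiv.inv_apply, inv_inv, hθ, map_smul]
        have e1 : f (ρ (u s * h a * w * u t) m) = f (ρ w m) := by
          rw [map_mul, map_mul, map_mul, Module.End.mul_apply, Module.End.mul_apply, Module.End.mul_apply, hmu, hfu, hfh']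
        rw [e1, mul_inv_rev, mul_inv_rev, mul_inv_rev, ← u_neg, ← u_neg, ← h_inv]
        simp only [map_mul, Module.End.mul_apply]
      have h2 : ∀ x : V, ∑ s : F, ρ (u (-s)) x = ∑ s : F, ρ (u s) x := fun x =>
        Equiv.sum_comp (Equiv.neg F) (fun s => ρ (u s) x)
      have h3 : ∀ (t : F) (a : Fˣ), ∑ s : F, f (ρ w m) • ρ (u (-t)) (ρ w⁻¹ (ρ (h a⁻¹) (ρ (u (-s)) (ρ w m)))) =
          -(f (ρ w m) • ρ (u (-t)) (ρ w m)) := by
        intro t a
        rw [← Finset.smul_sum, ← map_sum, ← map_sum, ← map_sum, h2, ← SS_apply, hmS, map_neg, hmh', map_neg, hwi, map_neg,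
          smul_neg]
      have h4 : ∀ t : F, ∑ a : Fˣ, -(f (ρ w m) • ρ (u (-t)) (ρ w m)) = f (ρ w m) • ρ (u (-t)) (ρ w m) := by
        intro t
        rw [Finset.sum_const, Finset.card_univ, Fintype.card_units, ← Nat.cast_smul_eq_nsmul k, Nat.cast_sub hq.le,
          hcard, Nat.cast_one, zero_sub, neg_one_smul, neg_neg]
      rw [Finset.sum_congr rfl fun t _ => (Finset.sum_congr rfl fun a _ => (Finset.sum_congr rfl fun s _ => h1 s a t).trans
        (h3 t a)).trans (h4 t), ← Finset.smul_sum, h2, ← SS_apply, hmS, smul_neg, neg_smul]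
    · intro a t
      rw [Equiv.inv_apply, inv_inv, hθ, map_mul, Module.End.mul_apply, hmu, hmh', hfm, zero_smul, map_zero]
  -- the kernel of `avg - c`
  have hall : ∀ x, avg ρ ρ θ x = -(f (ρ w m)) • x := by
    let N : Submodule k V := LinearMap.ker (avg ρ ρ θ - (-(f (ρ w m))) • LinearMap.id)
    have hN : ∀ x, x ∈ N ↔ avg ρ ρ θ x = -(f (ρ w m)) • x := by
      intro x
      rw [LinearMap.mem_ker, LinearMap.sub_apply, sub_eq_zero]
      rfl
    have hNi : ∀ g, ∀ x ∈ N, ρ g x ∈ N := by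
      intro g x hx
      rw [hN] at hx ⊢
      rw [avg_equiv, hx, map_smul]
    rcases hirr.2 N hNi with h1 | h1
    · have h2 : m ∈ N := (hN m).2 hsum
      rw [h1, Submodule.mem_bot] at h2
      exact absurd h2 hm0
    · intro x
      have h2 : x ∈ N := by rw [h1]; trivial
      exact (hN x).1 h2
  refine ⟨(-(f (ρ w m)))⁻¹ • θ, fun x => ?_⟩
  have h1 := hall x
  rw [avg_apply] at h1
  have h2 : ∀ g, ρ g (((-(f (ρ w m)))⁻¹ • θ) (ρ g⁻¹ x)) = (-(f (ρ w m)))⁻¹ • ρ g (θ (ρ g⁻¹ x)) := fun g => by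
    rw [LinearMap.smul_apply, map_smul]
  rw [Finset.sum_congr rfl fun g _ => h2 g, ← Finset.smul_sum, h1, inv_smul_smul₀ (neg_ne_zero.2 hfw)]

end Cfsg.Agent.R2.T1.N6B
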